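import Mathlib

/-!
Counting weighted tuples of polynomials with non-zero constant term.
-/

set_option autoImplicit false

namespace GLClassCount2478

variable (q : ℕ)

/-- monic polynomials of degree `d` with non-zero constant term -/
def cnt : ℕ → ℕ
  | 0 => 1
  | d + 1 => (q - 1) * q ^ d

/-- number of tuples of weight `n` with weights `1, ..., j` -/
def tot : ℕ → ℕ → ℕ
  | 0, n => if n = 0 then 1 else 0
  | j + 1, n => ∑ m ∈ Finset.range (n / (j + 1) + 1), cnt q m * tot j (n - (j + 1) * m)

/-- the part of the sum with a positive last degree -/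
def inc (j n : ℕ) : ℕ :=
  ∑ m ∈ Finset.range (n / (j + 1)), cnt q (m + 1) * tot q j (n - (j + 1) * (m + 1))

lemma tot_succ (j n : ℕ) : tot q (j + 1) n = tot q j n + inc q j n := by
  conv_lhs => rw [tot]
  rw [Finset.sum_range_succ', inc, add_comm]
  congr 1
  simp [cnt]

lemma tot_zero_right : ∀ j, tot q j 0 = 1
  | 0 => rfl
  | j + 1 => by simp [tot, cnt, tot_zero_right j]

lemma inc_eq (j : ℕ) {n : ℕ} (hn : j + 1 ≤ n) :
    inc q j n = (q - 1) * tot q j (n - (j + 1)) +
      q * ∑ m ∈ Finset.range ((n - (j + 1)) / (j + 1)),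
        cnt q (m + 1) * tot q j (n - (j + 1) - (j + 1) * (m + 1)) := by
  rw [inc, show n / (j + 1) = (n - (j + 1)) / (j + 1) + 1 by
    rw [← Nat.add_div_right _ (Nat.succ_pos j), Nat.sub_add_cancel hn], Finset.sum_range_succ', add_comm,
    Finset.mul_sum]
  congr 1
  · simp [cnt]
  · refine Finset.sum_congr rfl fun m _ => ?_
    rw [show n - (j + 1) * (m + 1 + 1) = n - (j + 1) - (j + 1) * (m + 1) by rw [Nat.sub_sub]; ring_nf,
      cnt, cnt, pow_succ]
    ring

lemma inc_small (j : ℕ) {n : ℕ} (hn : n < j + 1) : inc q j n = 0 := by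
  rw [inc, Nat.div_eq_of_lt hn]; rfl

variable {q} (hq : 2 ≤ q)

include hq in
lemma inc_le {j : ℕ} (hj : 1 ≤ j) (hb : ∀ r, 1 ≤ r → tot q j r + q ^ (r - j) ≤ q ^ r) :
    ∀ n, j + 1 ≤ n → inc q j n + q ^ (n - (j + 1)) ≤ q ^ (n - j) := by
  intro n
  induction n using Nat.strong_induction_on with
  | _ n ih =>
    intro hn
    obtain ⟨r, rfl⟩ : ∃ r, n = j + 1 + r := ⟨n - (j + 1), by omega⟩
    rw [inc_eq q j hn, Nat.add_sub_cancel_left, show j + 1 + r - j = r + 1 by omega, pow_succ]
    change (q - 1) * tot q j r + q * inc q j r + q ^ r ≤ q ^ r * q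
    obtain ⟨u, rfl⟩ : ∃ u, q = u + 2 := ⟨q - 2, by omega⟩
    rw [show u + 2 - 1 = u + 1 by omega]
    rcases Nat.eq_zero_or_pos r with rfl | hr
    · rw [tot_zero_right, inc_small _ _ (by omega)]
      simp
    have h1 := hb r hr
    rcases Nat.lt_or_ge r (j + 1) with hlt | hge
    · rw [inc_small _ _ hlt, mul_zero, add_zero]
      have h2 : (u + 1) * tot (u + 2) j r ≤ (u + 1) * (u + 2) ^ r :=
        Nat.mul_le_mul_left _ (by omega)
      rw [show (u + 2) ^ r * (u + 2) = (u + 1) * (u + 2) ^ r + (u + 2) ^ r by ring]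
      omega
    · have h2 := ih r (by omega) hge
      have e : (u + 2) ^ (r - j) = (u + 2) ^ (r - (j + 1)) * (u + 2) := by
        rw [← pow_succ]; congr 1; omega
      have h3 := Nat.mul_le_mul_left (u + 1) h1
      have h4 := Nat.mul_le_mul_left (u + 2) h2
      rw [mul_add] at h3 h4
      nlinarith [e, h3, h4]

include hq in
lemma tot_le : ∀ j, 1 ≤ j → ∀ n, 1 ≤ n → tot q j n + q ^ (n - j) ≤ q ^ n := by
  intro j hj
  induction j, hj using Nat.le_induction with
  | base =>
    intro n hn
    obtain ⟨d, rfl⟩ : ∃ d, n = d + 1 := ⟨n - 1, by omega⟩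
    rw [tot]
    rw [Finset.sum_eq_single (d + 1)]
    · simp only [zero_add, one_mul, Nat.sub_self, tot, if_pos, mul_one, cnt, Nat.add_sub_cancel, zero_mul]
      rw [pow_succ']
      conv_rhs => rw [show q = q - 1 + 1 by omega]
      rw [add_mul, one_mul, show q - 1 + 1 = q by omega]
    · intro b hb hne
      rw [Finset.mem_range, Nat.div_one] at hb
      rw [tot, if_neg (by omega), mul_zero]
    · intro h
      exact absurd (Finset.mem_range.2 (by rw [Nat.div_one]; omega)) h
  | succ j hj ih =>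
    intro n hn
    rw [tot_succ]
    rcases Nat.lt_or_ge n (j + 1) with hlt | hge
    · rw [inc_small _ _ hlt, add_zero, show n - (j + 1) = n - j by omega]
      exact ih n hn
    · have h1 := inc_le hq hj ih n hge
      have h2 := ih n hn
      omega

include hq in
/-- the total is at most `q ^ n` -/
theorem tot_le_pow {n : ℕ} (hn : 1 ≤ n) : tot q n n ≤ q ^ n := by
  have := tot_le hq n hn n hn
  omega

end GLClassCount2478
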