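import Mathlib
import Cfsg.Agent.GLClassCount.Arith

/-!
The finite set of weighted tuples of polynomials.
-/

set_option autoImplicit false

namespace GLClassCount2478

open Polynomial

variable (F : Type*) [Field F] [Fintype F]

/-- monic polynomials of degree `d` with non-zero constant term -/
noncomputable def monSet (d : ℕ) : Finset F[X] := by
  classical
  exact match d with
    | 0 => {1}
    | e + 1 => ((Finset.univ : Finset ((Fˣ) × (Fin e → F)))).image fun v =>
        X ^ (e + 1) + ∑ i : Fin (e + 1), C ((Fin.cons (v.1 : F) v.2 : Fin (e + 1) → F) i) * X ^ (i : ℕ)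

lemma card_monSet_le (d : ℕ) : (monSet F d).card ≤ cnt (Fintype.card F) d := by
  classical
  rcases d with _ | e
  · simp [monSet, cnt]
  · refine Finset.card_image_le.trans (le_of_eq ?_)
    rw [Finset.card_univ, Fintype.card_prod, Fintype.card_units, Fintype.card_fun, Fintype.card_fin, cnt]

lemma mem_monSet {p : F[X]} (hp : p.Monic) (h0 : p.coeff 0 ≠ 0) : p ∈ monSet F p.natDegree := by
  classical
  obtain ⟨d, hd⟩ : ∃ d, p.natDegree = d := ⟨_, rfl⟩
  rw [hd]
  rcases d with _ | e
  · simp [monSet, eq_one_of_monic_natDegree_zero hp hd]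
  · simp only [monSet, Finset.mem_image, Finset.mem_univ, true_and]
    refine ⟨(Units.mk0 _ h0, fun i => p.coeff (i.val + 1)), ?_⟩
    conv_rhs => rw [hp.as_sum, hd]
    congr 1
    rw [Finset.sum_range fun i => C (p.coeff i) * X ^ i]
    refine Finset.sum_congr rfl fun i _ => ?_
    congr 2
    refine Fin.cases ?_ (fun k => ?_) i <;> simp

/-- weighted tuples -/
noncomputable def tupSet : (j : ℕ) → ℕ → Finset (Fin j → F[X])
  | 0, n => if n = 0 then Finset.univ else ∅
  | j + 1, n => by
    classical
    exact (Finset.range (n / (j + 1) + 1)).biUnion fun m =>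
      ((monSet F m) ×ˢ (tupSet j (n - (j + 1) * m))).image fun x => Fin.snoc x.2 x.1

lemma card_tupSet_le : ∀ j n, (tupSet F j n).card ≤ tot (Fintype.card F) j n
  | 0, n => by
    simp only [tupSet, tot]
    split_ifs <;> simp
  | j + 1, n => by
    classical
    rw [tupSet, tot]
    refine Finset.card_biUnion_le.trans (Finset.sum_le_sum fun m _ => ?_)
    refine Finset.card_image_le.trans ?_
    rw [Finset.card_product]
    exact Nat.mul_le_mul (card_monSet_le F m) (card_tupSet_le j _)

lemma mem_tupSet : ∀ (j : ℕ) (v : Fin j → F[X]), (∀ i, (v i).Monic ∧ (v i).coeff 0 ≠ 0) →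
    v ∈ tupSet F j (∑ i : Fin j, ((i : ℕ) + 1) * (v i).natDegree)
  | 0, v, _ => by simp [tupSet, eq_iff_true_of_subsingleton]
  | j + 1, v, hv => by
    classical
    rw [tupSet]
    simp only [Finset.mem_biUnion, Finset.mem_range, Finset.mem_image, Finset.mem_product]
    refine ⟨(v (Fin.last j)).natDegree, ?_, (v (Fin.last j), Fin.init v), ⟨mem_monSet F (hv _).1 (hv _).2, ?_⟩,
      Fin.snoc_init_self v⟩
    · rw [Nat.lt_succ_iff, Nat.le_div_iff_mul_le (Nat.succ_pos j), Fin.sum_univ_castSucc, Fin.val_last,
        mul_comm (v (Fin.last j)).natDegree]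
      exact Nat.le_add_left _ _
    · have := mem_tupSet j (Fin.init v) fun i => hv i.castSucc
      rw [Fin.sum_univ_castSucc, Fin.val_last, Nat.add_sub_cancel]
      exact this

end GLClassCount2478
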