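import Mathlib
import Cfsg.Agent.GLClassCount.Tuples
import Cfsg.Agent.Lib.Classical.SemisimpleConj

/-!
The number of classes of `GL(n, q)`.
-/

set_option autoImplicit false

universe u

namespace GLClassCount2478

open Polynomial Module

variable {F : Type u} [Field F] {n : ℕ}

/-- the module of a matrix -/
abbrev modOf (g : GL (Fin n) F) : Type u := Module.AEval' (Matrix.toLin' (g : Matrix (Fin n) (Fin n) F))

/-- the cyclic module of an elementary divisor -/
abbrev blk (x : F[X] × ℕ) : Type u := F[X] ⧸ Submodule.span F[X] {x.1 ^ x.2}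

lemma isConj_of_iso {g h : GL (Fin n) F} (e : modOf g ≃ₗ[F[X]] modOf h) : IsConj g h := by
  let a := Module.AEval'.of (Matrix.toLin' (g : Matrix (Fin n) (Fin n) F))
  let b := Module.AEval'.of (Matrix.toLin' (h : Matrix (Fin n) (Fin n) F))
  let φ : (Fin n → F) ≃ₗ[F] (Fin n → F) := a.trans ((e.restrictScalars F).trans b.symm)
  have hφ : ∀ v, φ ((g : Matrix (Fin n) (Fin n) F).mulVec v) = (h : Matrix (Fin n) (Fin n) F).mulVec (φ v) := by
    intro v
    apply b.injective
    show b (b.symm (e (a ((g : Matrix (Fin n) (Fin n) F).mulVec v)))) = b ((h : Matrix (Fin n) (Fin n) F).mulVec (φ v))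
    rw [LinearEquiv.apply_symm_apply, ← Matrix.toLin'_apply, ← Module.AEval'.X_smul_of,
      map_smul, ← Matrix.toLin'_apply, ← Module.AEval'.X_smul_of]
    show _ = X • b (b.symm (e (a v)))
    rw [LinearEquiv.apply_symm_apply]
  let c : GL (Fin n) F := ⟨LinearMap.toMatrix' φ.toLinearMap, LinearMap.toMatrix' φ.symm.toLinearMap,
    by rw [← LinearMap.toMatrix'_comp, LinearEquiv.comp_symm, LinearMap.toMatrix'_id],
    by rw [← LinearMap.toMatrix'_comp, LinearEquiv.symm_comp, LinearMap.toMatrix'_id]⟩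
  refine isConj_iff.2 ⟨c, mul_inv_eq_iff_eq_mul.2 (Units.ext (Matrix.ext_of_mulVec_single fun j => ?_))⟩
  rw [Units.val_mul, Units.val_mul, ← Matrix.mulVec_mulVec, ← Matrix.mulVec_mulVec]
  show (LinearMap.toMatrix' φ.toLinearMap).mulVec _ = (h : Matrix (Fin n) (Fin n) F).mulVec ((LinearMap.toMatrix' φ.toLinearMap).mulVec _)
  rw [LinearMap.toMatrix'_mulVec, LinearMap.toMatrix'_mulVec]
  exact hφ _

/-- equal families up to order give isomorphic products -/
lemma exists_equiv {ι κ : Type u} [Fintype ι] [Fintype κ] (P : ι → F[X] × ℕ) (Q : κ → F[X] × ℕ)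
    (h : (Finset.univ : Finset ι).val.map P = (Finset.univ : Finset κ).val.map Q) :
    Nonempty ((∀ i, blk (P i)) ≃ₗ[F[X]] (∀ j, blk (Q j))) := by
  classical
  have hc : ∀ x, Fintype.card {i // P i = x} = Fintype.card {j // Q j = x} := by
    intro x
    have := congrArg (Multiset.count x) h
    rw [Multiset.count_map, Multiset.count_map] at this
    simp only [Fintype.card_subtype, Finset.card_def, Finset.filter_val]
    simpa [eq_comm] using this
  let σ : ι ≃ κ := Equiv.ofFiberEquiv (f := P) (g := Q) fun x => Fintype.equivOfCardEq (hc x)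
  have hσ : ∀ i, Q (σ i) = P i := fun i => Equiv.ofFiberEquiv_map _ i
  exact ⟨(LinearEquiv.piCongrRight fun i => Submodule.quotEquivOfEq _ _ (by rw [hσ i])).trans
    (LinearEquiv.piCongrLeft F[X] (fun j => blk (Q j)) σ)⟩

lemma exists_data (g : GL (Fin n) F) :
    ∃ (ι : Type u) (_ : Fintype ι) (P : ι → F[X] × ℕ),
      (∀ i, (P i).1.Monic ∧ Irreducible (P i).1 ∧ 1 ≤ (P i).2 ∧ (P i).1.coeff 0 ≠ 0) ∧
      ∑ i, (P i).2 * (P i).1.natDegree = n ∧ Nonempty (modOf g ≃ₗ[F[X]] (∀ i, blk (P i))) := by
  classical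
  let f : Module.End F (Fin n → F) := Matrix.toLin' (g : Matrix (Fin n) (Fin n) F)
  let ev := Module.AEval'.of f
  haveI : Module.Finite F[X] (modOf g) := Module.Finite.of_restrictScalars_finite F F[X] (modOf g)
  have htor : Module.IsTorsion F[X] (modOf g) := fun x =>
    ⟨⟨minpoly F f, mem_nonZeroDivisors_of_ne_zero (minpoly.ne_zero (Algebra.IsIntegral.isIntegral f))⟩, by
      obtain ⟨v, rfl⟩ := ev.surjective x
      show minpoly F f • ev v = 0
      refine ev.symm.injective ?_
      rw [Module.AEval.of_symm_smul, LinearEquiv.symm_apply_apply, minpoly.aeval, map_zero]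
      rfl⟩
  obtain ⟨ι₀, hι₀, p, hp, e, ⟨E⟩⟩ := Module.equiv_directSum_of_isTorsion htor
  let E' : modOf g ≃ₗ[F[X]] (∀ i, F[X] ⧸ Submodule.span F[X] {p i ^ e i}) :=
    E.trans (DirectSum.linearEquivFunOnFintype F[X] ι₀ _)
  let ι := {i : ι₀ // e i ≠ 0}
  let P : ι → F[X] × ℕ := fun i => (normalize (p i.1), e i.1)
  have hspan : ∀ i : ι₀, Submodule.span F[X] {normalize (p i) ^ e i} = Submodule.span F[X] {p i ^ e i} := fun i =>
    Ideal.span_singleton_eq_span_singleton.2 ((normalize_associated (p i)).pow_pow)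
  -- drop the trivial summands
  let π : (∀ i, F[X] ⧸ Submodule.span F[X] {p i ^ e i}) →ₗ[F[X]] (∀ i : ι, F[X] ⧸ Submodule.span F[X] {p i.1 ^ e i.1}) :=
    LinearMap.pi fun i => LinearMap.proj i.1
  have hπ : Function.Bijective π := by
    have hsub : ∀ i, e i = 0 → ∀ z : F[X] ⧸ Submodule.span F[X] {p i ^ e i}, z = 0 := by
      intro i hi z
      obtain ⟨z, rfl⟩ := Submodule.Quotient.mk_surjective _ z
      rw [Submodule.Quotient.mk_eq_zero, hi, pow_zero]
      exact Submodule.mem_span_singleton.2 ⟨z, mul_one z⟩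
    refine ⟨fun x y hxy => funext fun i => ?_, fun z => ?_⟩
    · by_cases hi : e i = 0
      · rw [hsub i hi (x i), hsub i hi (y i)]
      · exact congrFun hxy ⟨i, hi⟩
    · refine ⟨fun i => if hi : e i = 0 then 0 else z ⟨i, hi⟩, funext fun i => ?_⟩
      show (if hi : e i.1 = 0 then 0 else z ⟨i.1, hi⟩) = z i
      rw [dif_neg i.2]
  let Φ : modOf g ≃ₗ[F[X]] (∀ i, blk (P i)) :=
    E'.trans ((LinearEquiv.ofBijective π hπ).trans
      (LinearEquiv.piCongrRight fun i => Submodule.quotEquivOfEq _ _ (hspan i.1).symm))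
  have hirr : ∀ i, Irreducible (P i).1 := fun i => (normalize_associated (p i.1)).symm.irreducible (hp i.1)
  have hmon : ∀ i, (P i).1.Monic := fun i => monic_normalize (hp i.1).ne_zero
  refine ⟨ι, inferInstance, P, fun i => ⟨hmon i, hirr i, Nat.pos_of_ne_zero i.2, ?_⟩, ?_, ⟨Φ⟩⟩
  · intro h0
    have hX : X ∣ (P i).1 := X_dvd_iff.2 h0
    have hne : (Submodule.Quotient.mk (1 : F[X]) : blk (P i)) ≠ 0 := by
      rw [Ne, Submodule.Quotient.mk_eq_zero, Submodule.mem_span_singleton]
      rintro ⟨a, ha⟩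
      exact (hirr i).not_isUnit ((isUnit_pow_iff i.2).1 (IsUnit.of_mul_eq_one_right a ha))
    have hassoc : Associated X (P i).1 := irreducible_X.associated_of_dvd (hirr i) hX
    have hinj : Function.Injective fun x : modOf g => (X : F[X]) • x := by
      intro x y hxy
      obtain ⟨v, rfl⟩ := ev.surjective x
      obtain ⟨w, rfl⟩ := ev.surjective y
      change (X : F[X]) • ev v = (X : F[X]) • ev w at hxy
      rw [show (X : F[X]) • ev v = ev (f v) from Module.AEval'.X_smul_of f v,
        show (X : F[X]) • ev w = ev (f w) from Module.AEval'.X_smul_of f w] at hxy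
      refine congrArg ev ?_
      have h := congrArg (fun v => ((g⁻¹ : GL (Fin n) F) : Matrix (Fin n) (Fin n) F).mulVec v) (ev.injective hxy)
      simp only [Matrix.toLin'_apply, Matrix.mulVec_mulVec, ← Units.val_mul, inv_mul_cancel, Units.val_one,
        Matrix.one_mulVec, f] at h
      exact h
    have hkill : (X : F[X]) ^ (P i).2 • (Pi.single i (Submodule.Quotient.mk 1) : ∀ j, blk (P j)) = 0 := by
      funext j
      rcases eq_or_ne j i with rfl | hji
      · rw [Pi.smul_apply, Pi.single_eq_same, Pi.zero_apply, ← Submodule.Quotient.mk_smul, Submodule.Quotient.mk_eq_zero,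
          smul_eq_mul, mul_one, Submodule.mem_span_singleton]
        obtain ⟨c, hc⟩ := hassoc.symm.pow_pow (n := (P j).2)
        exact ⟨c, by rw [smul_eq_mul, mul_comm, hc]⟩
      · rw [Pi.smul_apply, Pi.single_eq_of_ne hji, smul_zero, Pi.zero_apply]
    have hpow : ∀ (k : ℕ) (x : modOf g), (X : F[X]) ^ k • x = 0 → x = 0 := by
      intro k
      induction k with
      | zero => intro x hx; rwa [pow_zero, one_smul] at hx
      | succ k ih =>
        intro x hx
        refine ih x (hinj ?_)
        show X • (X ^ k • x) = X • (0 : modOf g)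
        rw [smul_zero, smul_smul, ← pow_succ', hx]
    have := hpow (P i).2 (Φ.symm (Pi.single i (Submodule.Quotient.mk 1))) (by rw [← map_smul, hkill, map_zero])
    rw [LinearEquiv.map_eq_zero_iff, Pi.single_eq_zero_iff] at this
    exact hne this
  · have h := (Φ.restrictScalars F).finrank_eq
    haveI : ∀ i, Module.Finite F (blk (P i)) := fun i => ((hmon i).pow (P i).2).finite_quotient
    rw [Module.finrank_pi_fintype, ← (Module.AEval'.of f).finrank_eq, Module.finrank_fin_fun] at h
    rw [h]
    refine Finset.sum_congr rfl fun i _ => ?_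
    rw [show finrank F (blk (P i)) = ((P i).1 ^ (P i).2).natDegree from finrank_quotient_span_eq_natDegree,
      natDegree_pow]

variable [Fintype F]

/-- The tuples attached to the classes. -/
theorem exists_tuples : ∃ v : ConjClasses (GL (Fin n) F) → Fin n → F[X], Function.Injective v ∧
    ∀ C, v C ∈ tupSet F n n ∧ ∃ (g : GL (Fin n) F) (ι : Type u) (_ : Fintype ι) (P : ι → F[X] × ℕ),
      ConjClasses.mk g = C ∧ (∀ i, (P i).1.Monic ∧ Irreducible (P i).1 ∧ 1 ≤ (P i).2 ∧ (P i).1.coeff 0 ≠ 0) ∧
      ∑ i, (P i).2 * (P i).1.natDegree = n ∧ Nonempty (modOf g ≃ₗ[F[X]] (∀ i, blk (P i))) ∧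
      ∀ k, v C k = ∏ i ∈ Finset.univ.filter (fun i => (P i).2 = (k : ℕ) + 1), (P i).1 := by
  classical
  have hrep : ∀ C : ConjClasses (GL (Fin n) F), ∃ g, ConjClasses.mk g = C := ConjClasses.mk_surjective
  choose rep hrep using hrep
  have hdata : ∀ C, ∃ (ι : Type u) (_ : Fintype ι) (P : ι → F[X] × ℕ),
      (∀ i, (P i).1.Monic ∧ Irreducible (P i).1 ∧ 1 ≤ (P i).2 ∧ (P i).1.coeff 0 ≠ 0) ∧
      ∑ i, (P i).2 * (P i).1.natDegree = n ∧ Nonempty (modOf (rep C) ≃ₗ[F[X]] (∀ i, blk (P i))) :=
    fun C => exists_data (rep C)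
  choose ι hι P hP hsum hiso using hdata
  let s : ConjClasses (GL (Fin n) F) → Multiset (F[X] × ℕ) := fun C => (Finset.univ : Finset (ι C)).val.map (P C)
  let v : ConjClasses (GL (Fin n) F) → Fin n → F[X] := fun C k =>
    (((s C).filter fun x => x.2 = (k : ℕ) + 1).map Prod.fst).prod
  have hle : ∀ C i, (P C i).2 ≤ n := fun C i => by
    obtain ⟨-, hi, -, -⟩ := hP C i
    calc (P C i).2 ≤ (P C i).2 * (P C i).1.natDegree := Nat.le_mul_of_pos_right _ hi.natDegree_pos
      _ ≤ n := (hsum C) ▸ Finset.single_le_sum (f := fun i => (P C i).2 * (P C i).1.natDegree)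
          (fun _ _ => Nat.zero_le _) (Finset.mem_univ i)
  have hvP : ∀ C k, v C k = ∏ i ∈ Finset.univ.filter (fun i => (P C i).2 = (k : ℕ) + 1), (P C i).1 := by
    intro C k
    simp only [v, s, Multiset.filter_map, Multiset.map_map, Finset.prod_eq_multiset_prod, Finset.filter_val]
    rfl
  have hmem : ∀ C, v C ∈ tupSet F n n := by
    intro C
    have h1 : ∀ k, (v C k).Monic ∧ (v C k).coeff 0 ≠ 0 := by
      intro k
      rw [hvP, coeff_zero_eq_eval_zero, eval_prod]
      refine ⟨monic_prod_of_monic _ _ fun i _ => (hP C i).1, Finset.prod_ne_zero_iff.2 fun i _ => ?_⟩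
      rw [← coeff_zero_eq_eval_zero]
      exact (hP C i).2.2.2
    have h := mem_tupSet F n (v C) h1
    have e : ∑ k : Fin n, ((k : ℕ) + 1) * (v C k).natDegree = n := by
      refine Eq.trans ?_ (hsum C)
      have e1 : ∀ k : Fin n, ((k : ℕ) + 1) * (v C k).natDegree =
          ∑ i, if (P C i).2 = (k : ℕ) + 1 then (P C i).2 * (P C i).1.natDegree else 0 := by
        intro k
        rw [hvP, natDegree_prod_of_monic _ _ fun i _ => (hP C i).1, Finset.mul_sum, Finset.sum_filter]
        refine Finset.sum_congr rfl fun i _ => ?_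
        split_ifs with hi <;> simp [hi]
      rw [Finset.sum_congr rfl fun k _ => e1 k, Finset.sum_comm]
      refine Finset.sum_congr rfl fun i _ => ?_
      obtain ⟨-, -, h1', -⟩ := hP C i
      rw [Finset.sum_eq_single (⟨(P C i).2 - 1, by have := hle C i; omega⟩ : Fin n)]
      · rw [if_pos (show (P C i).2 = (P C i).2 - 1 + 1 by omega)]
      · intro k _ hk
        refine if_neg fun hk' => hk (Fin.ext ?_)
        show (k : ℕ) = (P C i).2 - 1
        omega
      · intro h
        exact absurd (Finset.mem_univ _) h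
    rwa [e] at h
  have hinj : Function.Injective v := by
    intro C D hCD
    have hs : s C = s D := by
      have hfac : ∀ C k, UniqueFactorizationMonoid.normalizedFactors (v C k) =
          ((s C).filter fun x => x.2 = (k : ℕ) + 1).map Prod.fst := by
        intro C k
        rw [UniqueFactorizationMonoid.normalizedFactors_prod_eq]
        · rw [Multiset.map_map]
          refine Multiset.map_congr rfl fun x hx => ?_
          obtain ⟨i, -, rfl⟩ := Multiset.mem_map.1 (Multiset.mem_of_mem_filter hx)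
          exact ((hP C i).1).normalize_eq_self
        · intro a ha
          obtain ⟨x, hx, rfl⟩ := Multiset.mem_map.1 ha
          obtain ⟨i, -, rfl⟩ := Multiset.mem_map.1 (Multiset.mem_of_mem_filter hx)
          exact (hP C i).2.1
      ext ⟨a, e⟩
      by_cases he : 1 ≤ e ∧ e ≤ n
      · have key : ∀ C, Multiset.count (a, e) (s C) =
            Multiset.count a (((s C).filter fun x => x.2 = e).map Prod.fst) := by
          intro C
          induction s C using Multiset.induction_on with
          | empty => simp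
          | cons x t ih =>
            obtain ⟨x1, x2⟩ := x
            rw [Multiset.count_cons, Multiset.filter_cons]
            by_cases h2 : x2 = e
            · subst h2
              simp [Multiset.count_cons, ih]
            · simp [h2, Ne.symm h2, ih]
        obtain ⟨k, hk⟩ : ∃ k : Fin n, (k : ℕ) + 1 = e := ⟨⟨e - 1, by omega⟩, by simp; omega⟩
        rw [key, key, ← hk, ← hfac, ← hfac, hCD]
      · have key : ∀ C, Multiset.count (a, e) (s C) = 0 := fun C => by
          rw [Multiset.count_eq_zero]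
          intro hm
          obtain ⟨i, -, hi⟩ := Multiset.mem_map.1 hm
          have h1 := (hP C i).2.2.1
          have h2 := hle C i
          rw [hi] at h1 h2
          exact he ⟨h1, h2⟩
        rw [key, key]
    obtain ⟨E⟩ := exists_equiv (P C) (P D) hs
    obtain ⟨A⟩ := hiso C
    obtain ⟨B⟩ := hiso D
    rw [← hrep C, ← hrep D, ConjClasses.mk_eq_mk_iff_isConj]
    exact isConj_of_iso (A.trans (E.trans B.symm))
  exact ⟨v, hinj, fun C => ⟨hmem C, rep C, ι C, hι C, P C, hrep C, hP C, hsum C, hiso C,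
    fun k => by convert hvP C k⟩⟩

/-- Upper bound. -/
theorem card_le (hn : 1 ≤ n) : Nat.card (ConjClasses (GL (Fin n) F)) ≤ Fintype.card F ^ n := by
  obtain ⟨v, hinj, hv⟩ := exists_tuples (F := F) (n := n)
  calc Nat.card (ConjClasses (GL (Fin n) F)) ≤ Nat.card (tupSet F n n) :=
        Nat.card_le_card_of_injective (fun C => (⟨v C, (hv C).1⟩ : tupSet F n n))
          fun C D h => hinj (congrArg Subtype.val h)
    _ = (tupSet F n n).card := Nat.card_eq_finsetCard _
    _ ≤ tot (Fintype.card F) n n := card_tupSet_le F n n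
    _ ≤ Fintype.card F ^ n := tot_le_pow Fintype.one_lt_card hn

/-- Lower bound: regular elements have pairwise different characteristic polynomials. -/
theorem le_card : Fintype.card F ^ n - Fintype.card F ^ (n - 1) ≤ Nat.card (ConjClasses (GL (Fin n) F)) := by
  classical
  rcases n with _ | e
  · simp
  let p : Fˣ × (Fin e → F) → F[X] := fun v =>
    X ^ (e + 1) + ∑ i : Fin (e + 1), C ((Fin.cons (v.1 : F) v.2 : Fin (e + 1) → F) i) * X ^ (i : ℕ)
  have hdeg : ∀ v, (∑ i : Fin (e + 1), C ((Fin.cons (v : F × (Fin e → F)).1 v.2 : Fin (e + 1) → F) i) * X ^ (i : ℕ)).degree < ((e + 1 : ℕ) : WithBot ℕ) :=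
    fun v => degree_sum_fin_lt _
  have hcoeff : ∀ v (i : Fin (e + 1)), (p v).coeff (i : ℕ) = (Fin.cons (v.1 : F) v.2 : Fin (e + 1) → F) i := by
    intro v i
    simp only [p, coeff_add, coeff_X_pow, if_neg i.2.ne, zero_add, finsetSum_coeff, coeff_C_mul, mul_ite, mul_one,
      mul_zero]
    rw [Finset.sum_eq_single i] <;> simp +contextual [Fin.val_inj, eq_comm]
  have hex : ∀ v, ∃ g : GL (Fin (e + 1)) F, (g : Matrix (Fin (e + 1)) (Fin (e + 1)) F).charpoly = p v := by
    intro v
    have hm : (p v).Monic := monic_X_pow_add (hdeg ((v.1 : F), v.2))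
    have h0 : (p v).coeff 0 ≠ 0 := by
      have := hcoeff v 0
      simp only [Fin.val_zero, Fin.cons_zero] at this
      rw [this]; exact v.1.ne_zero
    have hd : (p v).natDegree = e + 1 := by
      refine natDegree_eq_of_degree_eq_some ?_
      rw [show p v = X ^ (e + 1) + _ from rfl, degree_add_eq_left_of_degree_lt] <;> rw [degree_X_pow]
      exact hdeg ((v.1 : F), v.2)
    obtain ⟨A, k, hk, hA, hAc⟩ := Cfsg.Agent.Classical.SemisimpleConj.exists_matrix (e + 1) (p v) hd hm h0
    have hk0 : k ≠ 0 := fun h => hk (by rw [h, Nat.cast_zero])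
    exact ⟨(IsUnit.of_pow_eq_one hA hk0).unit, by rw [IsUnit.unit_spec]; exact hAc⟩
  choose g hg using hex
  have hinj : Function.Injective fun v => ConjClasses.mk (g v) := by
    intro v w h
    obtain ⟨c, hc⟩ := isConj_iff.1 (ConjClasses.mk_eq_mk_iff_isConj.1 h)
    have hp : p v = p w := by
      rw [← hg v, ← hg w, ← hc]
      rw [Units.val_mul, Units.val_mul, Matrix.coe_units_inv, Matrix.charpoly_units_conj]
    refine Prod.ext (Units.ext ?_) (funext fun i => ?_)
    · simpa [hcoeff] using (hcoeff v 0).symm.trans ((congrArg (coeff · 0) hp).trans (hcoeff w 0))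
    · simpa using (hcoeff v i.succ).symm.trans ((congrArg (coeff · (i.succ : ℕ)) hp).trans (hcoeff w i.succ))
  refine le_trans (le_of_eq ?_) (Nat.card_le_card_of_injective _ hinj)
  rw [Nat.card_prod, Nat.card_units, Nat.card_fun, Nat.card_eq_fintype_card, Nat.card_eq_fintype_card,
    Fintype.card_fin, Nat.add_sub_cancel, Nat.sub_mul, one_mul, pow_succ']

end GLClassCount2478
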