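import Mathlib
import Cfsg.Agent.GLClassCount.Arith

/-!
Arithmetic of weighted tuples without weight one, for the class number of `SL(n, q)`.
-/

set_option autoImplicit false

namespace GLClassCount2478

variable (q : ℕ)

/-- number of tuples of weight `n` with weights `2, ..., j + 1` -/
def rt : ℕ → ℕ → ℕ
  | 0, n => if n = 0 then 1 else 0
  | j + 1, n => ∑ m ∈ Finset.range (n / (j + 2) + 1), cnt q m * rt j (n - (j + 2) * m)

/-- partial sums of `restB` -/
def restP : ℕ → ℕ
  | 0 => 1
  | 1 => 1
  | k + 2 => restP (k + 1) + (q * restP k - 1)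

/-- bound for `rt` -/
def restB : ℕ → ℕ
  | 0 => 1
  | 1 => 0
  | k + 2 => q * restP q k - 1

/-- weighted sum of `restB` -/
def restT : ℕ → ℕ
  | 0 => 0
  | n + 1 => q * restT n + restB q n

lemma sum_restB : ∀ k, ∑ r ∈ Finset.range (k + 1), restB q r = restP q k
  | 0 => rfl
  | 1 => rfl
  | k + 2 => by rw [Finset.sum_range_succ, sum_restB (k + 1)]; rfl

lemma restT_eq : ∀ n, restT q n = ∑ i ∈ Finset.range n, q ^ (n - 1 - i) * restB q i
  | 0 => rfl
  | n + 1 => by
    rw [Finset.sum_range_succ, restT, restT_eq n, Finset.mul_sum]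
    congr 1
    · refine Finset.sum_congr rfl fun i hi => ?_
      rw [Finset.mem_range] at hi
      rw [← mul_assoc, ← pow_succ']
      congr 2
      omega
    · simp

lemma rt_zero_right : ∀ j, rt q j 0 = 1
  | 0 => rfl
  | j + 1 => by simp [rt, cnt, rt_zero_right j]

variable {q}

lemma one_le_restP : ∀ k, 1 ≤ restP q k
  | 0 => le_rfl
  | 1 => le_rfl
  | k + 2 => (one_le_restP (k + 1)).trans (Nat.le_add_right _ _)

lemma rt_succ_le (hq : 2 ≤ q) (l n : ℕ) (hn : l + 2 ≤ n) :
    rt q (l + 1) n + (if n = l + 2 then 1 else 0) ≤ rt q l n + q * rt q (l + 1) (n - (l + 2)) := by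
  have hd : n / (l + 2) = (n - (l + 2)) / (l + 2) + 1 := by
    rw [← Nat.add_div_right _ (show 0 < l + 2 by omega), Nat.sub_add_cancel hn]
  conv_lhs => rw [rt]
  rw [Finset.sum_range_succ', show cnt q 0 * rt q l (n - (l + 2) * 0) = rt q l n by simp [cnt], hd]
  conv_rhs => rw [rt]
  rw [Finset.mul_sum, Finset.sum_range_succ', Finset.sum_range_succ']
  have e1 : ∀ m, cnt q (m + 1 + 1) * rt q l (n - (l + 2) * (m + 1 + 1)) =
      q * (cnt q (m + 1) * rt q l (n - (l + 2) - (l + 2) * (m + 1))) := fun m => by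
    rw [show n - (l + 2) * (m + 1 + 1) = n - (l + 2) - (l + 2) * (m + 1) by rw [Nat.sub_sub]; ring_nf,
      cnt, cnt, pow_succ]
    ring
  rw [Finset.sum_congr rfl fun m _ => e1 m]
  simp only [zero_add, mul_one, mul_zero, Nat.sub_zero, cnt, pow_zero, one_mul]
  obtain ⟨u, rfl⟩ : ∃ u, q = u + 1 := ⟨q - 1, by omega⟩
  rw [Nat.add_sub_cancel]
  by_cases h : n = l + 2
  · subst h
    rw [if_pos rfl, Nat.sub_self, rt_zero_right]
    omega
  · rw [if_neg h]
    nlinarith [Nat.zero_le (rt (u + 1) l (n - (l + 2)))]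

lemma rt_le (hq : 2 ≤ q) : ∀ n j, rt q j n ≤ restB q n := by
  intro n
  induction n using Nat.strong_induction_on with
  | _ n ih =>
    match n with
    | 0 => intro j; rw [rt_zero_right]; rfl
    | 1 =>
      intro j
      induction j with
      | zero => simp [rt, restB]
      | succ j ihj => rw [rt, Nat.div_eq_of_lt (show 1 < j + 2 by omega)]; simpa [cnt] using ihj
    | k + 2 =>
      intro j
      have key : ∀ J, rt q J (k + 2) + (if k < J then 1 else 0) ≤
          ∑ l ∈ Finset.range (min J (k + 1)), q * restB q (k - l) := by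
        intro J
        induction J with
        | zero => simp [rt]
        | succ J ihJ =>
          by_cases hJ : J ≤ k
          · rw [show min (J + 1) (k + 1) = J + 1 by omega, Finset.sum_range_succ]
            rw [show min J (k + 1) = J by omega, if_neg (by omega)] at ihJ
            have h1 := rt_succ_le hq J (k + 2) (by omega)
            have h2 := ih (k + 2 - (J + 2)) (by omega) (J + 1)
            rw [show k + 2 - (J + 2) = k - J by omega] at h1 h2
            have h3 := Nat.mul_le_mul_left q h2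
            by_cases hJk : J = k
            · rw [if_pos (by omega)] at h1 ⊢; omega
            · rw [if_neg (by omega)] at h1 ⊢; omega
          · rw [show min (J + 1) (k + 1) = k + 1 by omega, if_pos (by omega), rt,
              Nat.div_eq_of_lt (show k + 2 < J + 2 by omega)]
            rw [show min J (k + 1) = k + 1 by omega, if_pos (by omega)] at ihJ
            simpa [cnt] using ihJ
      have hsum : ∑ l ∈ Finset.range (k + 1), q * restB q (k - l) = q * restP q k := by
        rw [← Finset.mul_sum, ← sum_restB]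
        congr 1
        simpa using Finset.sum_range_reflect (fun r => restB q r) (k + 1)
      have h := key j
      have hsub : ∑ l ∈ Finset.range (min j (k + 1)), q * restB q (k - l) ≤
          ∑ l ∈ Finset.range (k + 1), q * restB q (k - l) :=
        Finset.sum_le_sum_of_subset (Finset.range_mono (min_le_right _ _))
      rw [restB]
      by_cases hj : k < j
      · rw [if_pos hj] at h; omega
      · rw [if_neg hj] at h
        have h5 : q * restB q 0 + ∑ l ∈ Finset.range (min j (k + 1)), q * restB q (k - l) ≤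
            ∑ l ∈ Finset.range (k + 1), q * restB q (k - l) := by
          rw [Finset.sum_range_succ (n := k), Nat.sub_self, add_comm (q * restB q 0)]
          exact Nat.add_le_add_right (Finset.sum_le_sum_of_subset (Finset.range_mono (by omega))) _
        have h6 : restB q 0 = 1 := rfl
        rw [h6, mul_one] at h5
        omega

lemma restB_two : restB q 2 = q - 1 := by simp [restB, restP]

lemma restB_three : restB q 3 = q - 1 := by simp [restB, restP]

lemma restP_two (hq : 1 ≤ q) : restP q 2 = q := by simp [restP]; omega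

lemma restB_four (hq : 1 ≤ q) : restB q 4 = q * q - 1 := by rw [restB, restP_two hq]

/-- the final numerical inequality -/
theorem restT_add_le (hq : 3 ≤ q) {n : ℕ} (hn : 5 ≤ n) :
    restT q n + (q - 1) * restB q n ≤ q ^ (n - 1) + 3 * q ^ (n - 2) := by
  have hP2 : restP q 2 = q := restP_two (by omega)
  have hP3 : restP q 3 + 1 = 2 * q := by
    rw [restP, hP2, show restP q 1 = 1 from rfl, mul_one]; omega
  have hP4 : restP q 4 + 2 = q ^ 2 + 2 * q := by
    rw [restP, hP2, sq, show (2 : ℕ) + 1 = 3 from rfl]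
    have : 1 ≤ q * q := by nlinarith
    omega
  have hT4 : restT q 4 + 1 = q ^ 3 + q ^ 2 := by
    simp only [restT, restB_two, restB_three, show restB q 0 = 1 from rfl, show restB q 1 = 0 from rfl]
    obtain ⟨u, rfl⟩ : ∃ u, q = u + 1 := ⟨q - 1, by omega⟩
    rw [Nat.add_sub_cancel]
    ring
  have hP : ∀ k, restP q (k + 4) ≤ q ^ k * restP q 4 ∧ restP q (k + 5) ≤ q ^ (k + 1) * restP q 4 := by
    intro k
    induction k with
    | zero =>
      refine ⟨by simp, ?_⟩
      rw [zero_add, zero_add, pow_one, restP]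
      show restP q 4 + (q * restP q 3 - 1) ≤ _
      have h3 := Nat.sub_le (q * restP q 3) 1
      have h4 : restP q 3 ≤ 2 * q := by omega
      nlinarith [Nat.mul_le_mul_left q h4, mul_le_mul_of_nonneg_right hq (Nat.zero_le (q * q))]
    | succ k ih =>
      refine ⟨ih.2, ?_⟩
      rw [show k + 1 + 5 = k + 4 + 2 by ring, restP, show k + 4 + 1 = k + 5 by ring]
      have h1 := Nat.mul_le_mul_left q ih.1
      have h2 := Nat.sub_le (q * restP q (k + 4)) 1
      rw [show q ^ (k + 1 + 1) = q ^ k * q * q by ring]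
      rw [show q ^ (k + 1) = q ^ k * q by ring] at ih
      nlinarith [ih.2, h1, h2, Nat.zero_le (q ^ k * restP q 4 * q)]
  have hΦ : ∀ k, restT q (k + 4) + restP q (k + 3) + 2 * restP q (k + 2) ≤
      q ^ k * (restT q 4 + restP q 3 + 2 * restP q 2) := by
    intro k
    induction k with
    | zero => simp
    | succ k ih =>
      refine le_trans ?_ (le_trans (Nat.mul_le_mul_left q ih) (le_of_eq (by ring)))
      rw [show k + 1 + 4 = k + 4 + 1 by ring, restT, show k + 4 = k + 2 + 2 by ring, restB,
        show k + 1 + 3 = k + 2 + 2 by ring, show k + 1 + 2 = k + 3 by ring]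
      rw [show restP q (k + 2 + 2) = restP q (k + 3) + (q * restP q (k + 2) - 1) from rfl]
      have h2 := Nat.sub_le (q * restP q (k + 2)) 1
      nlinarith [h2, Nat.mul_le_mul_right (restP q (k + 3)) hq]
  obtain ⟨k, rfl⟩ : ∃ k, n = k + 5 := ⟨n - 5, by omega⟩
  rw [show k + 5 - 1 = k + 4 by omega, show k + 5 - 2 = k + 3 by omega]
  obtain ⟨u, hu⟩ : ∃ u, q = u + 1 := ⟨q - 1, by omega⟩
  rw [show q - 1 = u by omega]
  have hB : restB q (k + 5) ≤ q * restP q (k + 3) := Nat.sub_le _ _
  rcases k with _ | k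
  · rw [show restT q (0 + 5) = q * restT q 4 + restB q 4 from rfl, restB_four (by omega)]
    have h1 := Nat.mul_le_mul_left u hB
    have h2 := Nat.sub_le (q * q) 1
    simp only [zero_add] at *
    subst hu
    nlinarith [h1, h2, hT4, hP3]
  · have h := hΦ (k + 2)
    have h2 := (hP k).1
    rw [show k + 1 + 5 = k + 2 + 4 by ring] at hB ⊢
    rw [show k + 2 + 2 = k + 4 by ring] at h
    rw [show k + 1 + 3 = k + 4 by ring] at hB ⊢
    rw [show k + 1 + 4 = k + 5 by ring]
    have h1 := Nat.mul_le_mul_left u hB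
    set P := restP q (k + 4)
    set Φ := restT q 4 + restP q 3 + 2 * restP q 2 with hΦdef
    have hΦ4 : Φ + 2 = q ^ 3 + q ^ 2 + 4 * q := by rw [hΦdef]; omega
    obtain ⟨c, hc⟩ : ∃ c, u * q = c + 2 := ⟨u * q - 2, by
      have : 2 ≤ u * q := by nlinarith
      omega⟩
    have h4 : restT q (k + 2 + 4) + u * restB q (k + 2 + 4) ≤ q ^ (k + 2) * Φ + c * (q ^ k * restP q 4) := by
      have h5 := Nat.mul_le_mul_left c h2
      have h6 : u * (q * P) = c * P + 2 * P := by rw [← mul_assoc, hc]; ring
      omega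
    refine h4.trans ?_
    rw [show q ^ (k + 5) + 3 * q ^ (k + 4) = q ^ k * (q ^ 5 + 3 * q ^ 4) by ring,
      show q ^ (k + 2) * Φ + c * (q ^ k * restP q 4) = q ^ k * (q ^ 2 * Φ + c * restP q 4) by ring]
    refine Nat.mul_le_mul_left _ ?_
    zify at hΦ4 hP4 hc hu ⊢
    have hq' : (3 : ℤ) ≤ (q : ℤ) := by exact_mod_cast hq
    have e1 : (Φ : ℤ) = (q : ℤ) ^ 3 + (q : ℤ) ^ 2 + 4 * q - 2 := by linarith
    have e2 : (restP q 4 : ℤ) = (q : ℤ) ^ 2 + 2 * q - 2 := by linarith
    have e3 : (c : ℤ) = (q : ℤ) ^ 2 - q - 2 := by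
      have : (u : ℤ) = q - 1 := by linarith
      rw [this] at hc; linear_combination -hc
    rw [e1, e2, e3]
    nlinarith [sq_nonneg ((q : ℤ) ^ 2 - 3 * q), sq_nonneg ((q : ℤ) - 3), mul_nonneg (sub_nonneg.2 hq') (sq_nonneg (q : ℤ))]

end GLClassCount2478
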