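import Mathlib
import Cfsg.Agent.GLClassCount.Main

/-!
Classes of `SL(n, q)` inside a class of `GL(n, q)`.
-/

set_option autoImplicit false

universe u

namespace GLClassCount2478

open Polynomial Module

variable {F : Type u} [Field F] {n : ℕ}

/-- the signed constant term -/
noncomputable def sgc (p : F[X]) : F := (-1) ^ p.natDegree * p.coeff 0

lemma sgc_one : sgc (1 : F[X]) = 1 := by simp [sgc]

lemma sgc_mul {p r : F[X]} (hp : p.Monic) (hr : r.Monic) : sgc (p * r) = sgc p * sgc r := by
  rw [sgc, sgc, sgc, hp.natDegree_mul hr, mul_coeff_zero, pow_add]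
  ring

lemma sgc_pow {p : F[X]} (hp : p.Monic) : ∀ e : ℕ, sgc (p ^ e) = sgc p ^ e
  | 0 => by rw [pow_zero, pow_zero, sgc_one]
  | e + 1 => by rw [pow_succ, pow_succ, sgc_mul (hp.pow e) hp, sgc_pow hp e]

lemma sgc_prod {ι : Type*} (s : Finset ι) (f : ι → F[X]) (h : ∀ i ∈ s, (f i).Monic) :
    sgc (∏ i ∈ s, f i) = ∏ i ∈ s, sgc (f i) := by
  classical
  induction s using Finset.induction_on with
  | empty => simp [sgc_one]
  | insert a t ha ih =>
    rw [Finset.prod_insert ha, Finset.prod_insert ha, sgc_mul (h a (Finset.mem_insert_self a t))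
      (monic_prod_of_monic _ _ fun i hi => h i (Finset.mem_insert_of_mem hi)),
      ih fun i hi => h i (Finset.mem_insert_of_mem hi)]

lemma sgc_ne_zero {p : F[X]} (h0 : p.coeff 0 ≠ 0) : sgc p ≠ 0 :=
  mul_ne_zero (pow_ne_zero _ (neg_ne_zero.2 one_ne_zero)) h0

section det

variable {ι : Type*} [Fintype ι] [DecidableEq ι] {A : ι → Type*} [∀ i, AddCommGroup (A i)]
  [∀ i, Module F (A i)] [∀ i, FiniteDimensional F (A i)]

/-- the endomorphism acting by `f` at one coordinate -/
def atCoord (i : ι) (f : A i →ₗ[F] A i) : (∀ j, A j) →ₗ[F] ∀ j, A j where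
  toFun v := Function.update v i (f (v i))
  map_add' v w := by
    funext j
    by_cases h : j = i
    · subst h; simp
    · simp [h]
  map_smul' c v := by
    funext j
    by_cases h : j = i
    · subst h; simp
    · simp [h]

lemma det_atCoord (i : ι) (f : A i →ₗ[F] A i) : LinearMap.det (atCoord i f) = LinearMap.det f := by
  let Φ : (∀ j, A j) ≃ₗ[F] A i × (∀ j : {j // j ≠ i}, A j) :=
    { Equiv.piSplitAt i A with
      map_add' := fun _ _ => rfl
      map_smul' := fun _ _ => rfl }
  rw [← LinearMap.det_conj (atCoord i f) Φ]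
  have h : ((Φ : (∀ j, A j) →ₗ[F] A i × (∀ j : {j // j ≠ i}, A j)) ∘ₗ (atCoord i f) ∘ₗ
      (Φ.symm : (A i × (∀ j : {j // j ≠ i}, A j)) →ₗ[F] ∀ j, A j)) = f.prodMap LinearMap.id := by
    refine LinearMap.ext fun x => ?_
    have hi : Φ.symm x i = x.1 := congrArg Prod.fst (Φ.apply_symm_apply x)
    refine Prod.ext ?_ (funext fun j => ?_)
    · show Function.update (Φ.symm x) i (f (Φ.symm x i)) i = f x.1
      rw [Function.update_self, hi]
    · show Function.update (Φ.symm x) i (f (Φ.symm x i)) j.1 = x.2 j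
      rw [Function.update_of_ne j.2]
      exact congrFun (congrArg Prod.snd (Φ.apply_symm_apply x)) j
  rw [h, LinearMap.det_prodMap, LinearMap.det_id, mul_one]

lemma det_pi_dep (f : ∀ i, A i →ₗ[F] A i) :
    LinearMap.det (LinearMap.pi fun i => (f i).comp (LinearMap.proj i)) = ∏ i, LinearMap.det (f i) := by
  suffices h : ∀ s : Finset ι, LinearMap.det (LinearMap.pi fun i =>
      (if i ∈ s then f i else LinearMap.id).comp (LinearMap.proj i)) = ∏ i ∈ s, LinearMap.det (f i) by
    simpa using h Finset.univ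
  intro s
  induction s using Finset.induction_on with
  | empty =>
    rw [Finset.prod_empty]
    convert LinearMap.det_id (A := F) (M := ∀ i, A i)
    ext; simp
  | insert a t ha ih =>
    rw [Finset.prod_insert ha, ← ih, ← det_atCoord a (f a), ← LinearMap.det_comp]
    congr 1
    refine LinearMap.ext fun v => funext fun j => ?_
    by_cases hj : j = a
    · subst hj; simp [atCoord, ha]
    · simp [atCoord, hj]

end det

/-- the determinant of multiplication by a polynomial -/
noncomputable def mdet (M : Type*) [AddCommGroup M] [Module F M] [Module F[X] M] [IsScalarTower F F[X] M]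
    (a : F[X]) : F := LinearMap.det ((Algebra.lsmul F F M) a)

lemma mdet_blk_X {x : F[X] × ℕ} (hm : x.1.Monic) : mdet (blk x) (X : F[X]) = sgc x.1 ^ x.2 := by
  have hne : x.1 ^ x.2 ≠ 0 := (hm.pow _).ne_zero
  have h2 := Algebra.PowerBasis.norm_gen_eq_coeff_zero_minpoly (AdjoinRoot.powerBasis hne)
  rw [AdjoinRoot.powerBasis_gen, AdjoinRoot.powerBasis_dim, AdjoinRoot.minpoly_root hne, (hm.pow _).leadingCoeff,
    inv_one, map_one, mul_one] at h2
  rw [← sgc_pow hm, sgc, ← h2, Algebra.norm_apply]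
  rfl

lemma exists_mdet_blk [Finite F] {x : F[X] × ℕ} (hm : x.1.Monic) (hi : Irreducible x.1) (he : 1 ≤ x.2) (c : F) :
    ∃ a : F[X], mdet (blk x) a = c ^ x.2 := by
  obtain ⟨p, e⟩ := x
  simp only at hm hi he ⊢
  haveI := Fintype.ofFinite F
  haveI := Fact.mk hi
  let A := AdjoinRoot (p ^ e)
  have hne : p ^ e ≠ 0 := (hm.pow _).ne_zero
  haveI : Module.Finite F (AdjoinRoot p) := (AdjoinRoot.powerBasis hi.ne_zero).finite
  haveI : Finite (AdjoinRoot p) := Module.finite_of_finite F
  haveI : Module.Finite F A := (AdjoinRoot.powerBasis hne).finite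
  have hroot : p.eval₂ (algebraMap F A) (AdjoinRoot.mk (p ^ e) (X ^ (Fintype.card F ^ e))) = 0 := by
    have h1 : ∀ k : ℕ, expand F (Fintype.card F ^ k) p = p ^ (Fintype.card F ^ k) := by
      intro k
      induction k with
      | zero => simp
      | succ k ih => rw [pow_succ, expand_mul, FiniteField.expand_card, map_pow, ih, ← pow_mul]
    rw [← aeval_def, map_pow, AdjoinRoot.mk_X, ← expand_aeval, AdjoinRoot.aeval_eq, h1]
    exact AdjoinRoot.mk_eq_zero.2 (pow_dvd_pow p (Nat.lt_pow_self Fintype.one_lt_card).le)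
  let φ : AdjoinRoot p →ₐ[F] A := AdjoinRoot.liftAlgHom p (Algebra.ofId F A) _ hroot
  letI : Algebra (AdjoinRoot p) A := φ.toRingHom.toAlgebra
  haveI : IsScalarTower F (AdjoinRoot p) A := IsScalarTower.of_algebraMap_eq fun r => (φ.commutes r).symm
  haveI : Module.Finite (AdjoinRoot p) A := Module.Finite.of_restrictScalars_finite F _ _
  have hd : 0 < p.natDegree := hi.natDegree_pos
  have hfin : finrank (AdjoinRoot p) A = e := by
    have h := Module.finrank_mul_finrank F (AdjoinRoot p) A
    rw [(AdjoinRoot.powerBasis hi.ne_zero).finrank, AdjoinRoot.powerBasis_dim,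
      (AdjoinRoot.powerBasis hne).finrank, AdjoinRoot.powerBasis_dim, natDegree_pow, mul_comm e] at h
    exact Nat.eq_of_mul_eq_mul_left hd h
  obtain ⟨k, hk⟩ := FiniteField.norm_surjective F (AdjoinRoot p) c
  obtain ⟨a, ha⟩ := AdjoinRoot.mk_surjective (algebraMap (AdjoinRoot p) A k)
  refine ⟨a, ?_⟩
  have h : Algebra.norm F (Algebra.norm (AdjoinRoot p) (algebraMap (AdjoinRoot p) A k)) =
      Algebra.norm F (algebraMap (AdjoinRoot p) A k) := Algebra.norm_norm
  rw [Algebra.norm_algebraMap, map_pow, hk, hfin, ← ha, Algebra.norm_apply] at h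
  rw [h]
  rfl

/-- the data of a class: determinant and centraliser determinants -/
lemma det_of_iso [Finite F] {g : GL (Fin n) F} {ι : Type u} [Fintype ι] {P : ι → F[X] × ℕ}
    (hP : ∀ i, (P i).1.Monic ∧ Irreducible (P i).1 ∧ 1 ≤ (P i).2 ∧ (P i).1.coeff 0 ≠ 0)
    (E : modOf g ≃ₗ[F[X]] (∀ i, blk (P i))) :
    (g : Matrix (Fin n) (Fin n) F).det = ∏ i, sgc (P i).1 ^ (P i).2 ∧
      ∀ (i : ι) (c : Fˣ), ∃ z : GL (Fin n) F, z * g = g * z ∧
        Matrix.GeneralLinearGroup.det z = c ^ (P i).2 := by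
  classical
  haveI : ∀ i, Module.Finite F (blk (P i)) := fun i => ((hP i).1.pow (P i).2).finite_quotient
  let f := Matrix.toLin' (g : Matrix (Fin n) (Fin n) F)
  let ev := Module.AEval'.of f
  constructor
  · have h1 : mdet (modOf g) (X : F[X]) = (g : Matrix (Fin n) (Fin n) F).det := by
      rw [mdet, ← LinearMap.det_toLin', ← LinearMap.det_conj (Matrix.toLin' (g : Matrix (Fin n) (Fin n) F)) ev]
      congr 1
      refine LinearMap.ext fun m => ?_
      obtain ⟨v, rfl⟩ := ev.surjective m
      show (X : F[X]) • ev v = ev (f (ev.symm (ev v)))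
      rw [LinearEquiv.symm_apply_apply]
      exact Module.AEval'.X_smul_of f v
    have h2 : mdet (modOf g) (X : F[X]) = mdet (∀ i, blk (P i)) (X : F[X]) := by
      rw [mdet, mdet, ← LinearMap.det_conj ((Algebra.lsmul F F (modOf g)) (X : F[X])) (E.restrictScalars F)]
      congr 1
      refine LinearMap.ext fun m => ?_
      show E ((X : F[X]) • E.symm m) = (X : F[X]) • m
      rw [map_smul, LinearEquiv.apply_symm_apply]
    have h3 : mdet (∀ i, blk (P i)) (X : F[X]) = ∏ i, mdet (blk (P i)) (X : F[X]) := by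
      rw [mdet, show (fun i => mdet (blk (P i)) (X : F[X])) = fun i =>
        LinearMap.det ((Algebra.lsmul F F (blk (P i))) (X : F[X])) from rfl, ← det_pi_dep]
      congr 1
    rw [← h1, h2, h3]
    exact Finset.prod_congr rfl fun i _ => mdet_blk_X (hP i).1
  · intro i c
    obtain ⟨a, ha⟩ := exists_mdet_blk (x := P i) (hP i).1 (hP i).2.1 (hP i).2.2.1 (c : F)
    let m : (∀ j, blk (P j)) →ₗ[F[X]] ∀ j, blk (P j) :=
      LinearMap.pi fun j => ((if j = i then a else 1 : F[X]) • LinearMap.id).comp (LinearMap.proj j)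
    let ψ : modOf g →ₗ[F[X]] modOf g := (E.symm.toLinearMap.comp m).comp E.toLinearMap
    let L : (Fin n → F) →ₗ[F] (Fin n → F) :=
      (ev.symm.toLinearMap.comp (ψ.restrictScalars F)).comp ev.toLinearMap
    have hdet : LinearMap.det L = (c : F) ^ (P i).2 := by
      have h1 : LinearMap.det L = LinearMap.det (ψ.restrictScalars F) := by
        rw [← LinearMap.det_conj (ψ.restrictScalars F) ev.symm]
        congr 1
      have h2 : LinearMap.det (ψ.restrictScalars F) = LinearMap.det (m.restrictScalars F) := by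
        rw [← LinearMap.det_conj (m.restrictScalars F) (E.restrictScalars F).symm]
        congr 1
      have h3 : LinearMap.det (m.restrictScalars F) =
          ∏ j, mdet (blk (P j)) (if j = i then a else 1 : F[X]) := by
        rw [show (fun j => mdet (blk (P j)) (if j = i then a else 1 : F[X])) = fun j =>
          LinearMap.det ((Algebra.lsmul F F (blk (P j))) (if j = i then a else 1 : F[X])) from rfl, ← det_pi_dep]
        congr 1
      rw [h1, h2, h3, Finset.prod_eq_single i]
      · rw [if_pos rfl, ha]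
      · intro j _ hj
        rw [if_neg hj, mdet, map_one]
        exact map_one _
      · intro h; exact absurd (Finset.mem_univ i) h
    have hd0 : (LinearMap.toMatrix' L).det ≠ 0 := by
      rw [LinearMap.det_toMatrix', hdet]; exact pow_ne_zero _ c.ne_zero
    refine ⟨Matrix.GeneralLinearGroup.mkOfDetNeZero _ hd0, Units.ext ?_, Units.ext ?_⟩
    · show LinearMap.toMatrix' L * (g : Matrix (Fin n) (Fin n) F) = (g : Matrix (Fin n) (Fin n) F) * LinearMap.toMatrix' L
      refine Matrix.toLin'.injective (LinearMap.ext fun v => ?_)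
      rw [Matrix.toLin'_mul, Matrix.toLin'_mul, Matrix.toLin'_toMatrix']
      show ev.symm (ψ (ev (f v))) = f (ev.symm (ψ (ev v)))
      refine ev.injective ?_
      rw [LinearEquiv.apply_symm_apply, ← Module.AEval'.X_smul_of f v, map_smul]
      conv_rhs => rw [← Module.AEval'.X_smul_of f, LinearEquiv.apply_symm_apply]
    · show (LinearMap.toMatrix' L).det = ((c ^ (P i).2 : Fˣ) : F)
      rw [LinearMap.det_toMatrix', hdet, Units.val_pow_eq_pow_val]

/-- number of classes of `SL` over one class of `GL` -/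
lemma fibre_le [Fintype F] {e : ℕ} (g : GL (Fin n) F)
    (hz : ∀ c : Fˣ, ∃ z : GL (Fin n) F, z * g = g * z ∧ Matrix.GeneralLinearGroup.det z = c ^ e) :
    Nat.card {x : ConjClasses (Matrix.SpecialLinearGroup (Fin n) F) //
      ConjClasses.map Matrix.SpecialLinearGroup.toGL x = ConjClasses.mk g} ≤ Nat.gcd e (Fintype.card F - 1) := by
  classical
  have hex : ∀ x : {x : ConjClasses (Matrix.SpecialLinearGroup (Fin n) F) //
      ConjClasses.map Matrix.SpecialLinearGroup.toGL x = ConjClasses.mk g},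
      ∃ (y : Matrix.SpecialLinearGroup (Fin n) F) (h : GL (Fin n) F),
        ConjClasses.mk y = x.1 ∧ h * g * h⁻¹ = Matrix.SpecialLinearGroup.toGL y := by
    rintro ⟨x, hx⟩
    obtain ⟨y, rfl⟩ := ConjClasses.mk_surjective x
    obtain ⟨h, hh⟩ := isConj_iff.1 (ConjClasses.mk_eq_mk_iff_isConj.1 hx.symm)
    exact ⟨y, h, rfl, hh⟩
  choose y h hy hh using hex
  let R : Subgroup Fˣ := (powMonoidHom e : Fˣ →* Fˣ).range
  have hinj : Function.Injective fun x => (QuotientGroup.mk (Matrix.GeneralLinearGroup.det (h x)) : Fˣ ⧸ R) := by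
    intro a b hab
    obtain ⟨c, hc⟩ := QuotientGroup.eq.1 hab
    obtain ⟨z, hz1, hz2⟩ := hz c
    change c ^ e = _ at hc
    have hd : Matrix.GeneralLinearGroup.det (h b * z⁻¹ * (h a)⁻¹) = 1 := by
      rw [map_mul, map_mul, map_inv, map_inv, hz2, hc, mul_inv_rev, inv_inv]
      group
    obtain ⟨s, hs⟩ : ∃ s : Matrix.SpecialLinearGroup (Fin n) F,
        Matrix.SpecialLinearGroup.toGL s = h b * z⁻¹ * (h a)⁻¹ :=
      ⟨⟨((h b * z⁻¹ * (h a)⁻¹ : GL (Fin n) F) : Matrix (Fin n) (Fin n) F), congrArg Units.val hd⟩, Units.ext rfl⟩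
    apply Subtype.ext
    rw [← hy a, ← hy b, ConjClasses.mk_eq_mk_iff_isConj, isConj_iff]
    refine ⟨s, Matrix.SpecialLinearGroup.toGL_injective ?_⟩
    rw [map_mul, map_mul, map_inv, hs, ← hh a, ← hh b]
    have hzc : z⁻¹ * g * z = g := by rw [mul_assoc, ← hz1, inv_mul_cancel_left]
    calc h b * z⁻¹ * (h a)⁻¹ * (h a * g * (h a)⁻¹) * (h b * z⁻¹ * (h a)⁻¹)⁻¹
        = h b * (z⁻¹ * g * z) * (h b)⁻¹ := by group
      _ = h b * g * (h b)⁻¹ := by rw [hzc]
  refine (Nat.card_le_card_of_injective _ hinj).trans (le_of_eq ?_)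
  show R.index = _
  have h1 := R.index_mul_card
  have h2 := (powMonoidHom e : Fˣ →* Fˣ).ker.index_mul_card
  rw [Subgroup.index_ker, ← h1, mul_comm] at h2
  rw [← Nat.eq_of_mul_eq_mul_right Nat.card_pos h2, IsCyclic.card_powMonoidHom_ker, Nat.card_units,
    Nat.card_eq_fintype_card, Nat.gcd_comm]

end GLClassCount2478
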