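import Mathlib
import Cfsg.Agent.GLClassCount.SLFibre
import Cfsg.Agent.GLClassCount.SLArith

/-!
Upper bounds for the number of classes of `SL(n, q)` from weighted tuples.
-/

set_option autoImplicit false

universe u

namespace GLClassCount2478

open Polynomial Module

variable (F : Type u) [Field F] [Fintype F]

/-- monic polynomials of degree `m` with prescribed signed constant term -/
noncomputable def monConst (m : ℕ) (a : F) : Finset F[X] := by
  classical
  exact match m with
    | 0 => {1}
    | e + 1 => (Finset.univ : Finset (Fin e → F)).image fun v =>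
        X ^ (e + 1) + ∑ i : Fin (e + 1), C ((Fin.cons ((-1) ^ (e + 1) * a) v : Fin (e + 1) → F) i) * X ^ (i : ℕ)

lemma card_monConst_le (m : ℕ) (a : F) : (monConst F m a).card ≤ Fintype.card F ^ (m - 1) := by
  classical
  rcases m with _ | e
  · simp [monConst]
  · refine Finset.card_image_le.trans (le_of_eq ?_)
    rw [Finset.card_univ, Fintype.card_fun, Fintype.card_fin, Nat.add_sub_cancel]

lemma mem_monConst {p : F[X]} (hp : p.Monic) {m : ℕ} (hm : p.natDegree = m) : p ∈ monConst F m (sgc p) := by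
  classical
  rcases m with _ | e
  · simp [monConst, eq_one_of_monic_natDegree_zero hp hm]
  · simp only [monConst, Finset.mem_image, Finset.mem_univ, true_and]
    refine ⟨fun i => p.coeff (i.val + 1), ?_⟩
    conv_rhs => rw [hp.as_sum, hm]
    congr 1
    rw [Finset.sum_range fun i => C (p.coeff i) * X ^ i]
    refine Finset.sum_congr rfl fun i _ => ?_
    congr 2
    refine Fin.cases ?_ (fun k => ?_) i
    · simp [sgc, hm, ← mul_assoc, ← pow_add, Even.neg_one_pow ⟨e + 1, rfl⟩]
    · simp

/-- tuples of weight `n` with trivial first entry -/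
noncomputable def restSet : (j : ℕ) → ℕ → Finset (Fin (j + 1) → F[X])
  | 0, n => by
    classical
    exact if n = 0 then {fun _ => 1} else ∅
  | j + 1, n => by
    classical
    exact (Finset.range (n / (j + 2) + 1)).biUnion fun m =>
      ((monSet F m) ×ˢ (restSet j (n - (j + 2) * m))).image fun x => Fin.snoc x.2 x.1

lemma card_restSet_le : ∀ j n, (restSet F j n).card ≤ rt (Fintype.card F) j n
  | 0, n => by
    simp only [restSet, rt]
    split_ifs <;> simp
  | j + 1, n => by
    classical
    rw [restSet, rt]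
    refine Finset.card_biUnion_le.trans (Finset.sum_le_sum fun m _ => ?_)
    refine Finset.card_image_le.trans ?_
    rw [Finset.card_product]
    exact Nat.mul_le_mul (card_monSet_le F m) (card_restSet_le j _)

lemma mem_restSet : ∀ (j : ℕ) (v : Fin (j + 1) → F[X]), (∀ i, (v i).Monic ∧ (v i).coeff 0 ≠ 0) → v 0 = 1 →
    v ∈ restSet F j (∑ i : Fin (j + 1), ((i : ℕ) + 1) * (v i).natDegree)
  | 0, v, _, h1 => by
    classical
    rw [restSet, if_pos (by simp [h1]), Finset.mem_singleton]
    funext i
    rw [show i = 0 from Fin.ext (by have := i.2; omega), h1]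
  | j + 1, v, hv, h1 => by
    classical
    rw [restSet]
    simp only [Finset.mem_biUnion, Finset.mem_range, Finset.mem_image, Finset.mem_product]
    refine ⟨(v (Fin.last (j + 1))).natDegree, ?_, (v (Fin.last (j + 1)), Fin.init v),
      ⟨mem_monSet F (hv _).1 (hv _).2, ?_⟩, Fin.snoc_init_self v⟩
    · rw [Nat.lt_succ_iff, Nat.le_div_iff_mul_le (Nat.succ_pos (j + 1)), Fin.sum_univ_castSucc, Fin.val_last,
        mul_comm (v (Fin.last (j + 1))).natDegree]
      exact Nat.le_add_left _ _
    · have := mem_restSet j (Fin.init v) (fun i => hv i.castSucc) h1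
      rw [Fin.sum_univ_castSucc, Fin.val_last, Nat.add_sub_cancel]
      exact this

variable {F}

/-- the determinant of a tuple -/
noncomputable def tdet {n : ℕ} (v : Fin n → F[X]) : F := ∏ k, sgc (v k) ^ ((k : ℕ) + 1)

/-- tuples of the classes of `GL` with the data needed for `SL` -/
theorem exists_SL_tuples (e : ℕ) : ∃ v : ConjClasses (GL (Fin (e + 1)) F) → Fin (e + 1) → F[X],
    Function.Injective v ∧ ∀ C, (∀ i, (v C i).Monic ∧ (v C i).coeff 0 ≠ 0) ∧
      ∑ k : Fin (e + 1), ((k : ℕ) + 1) * (v C k).natDegree = e + 1 ∧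
      (∀ x, ConjClasses.map Matrix.SpecialLinearGroup.toGL x = C → tdet (v C) = 1) ∧
      (∀ k, v C k ≠ 1 → Nat.card {x : ConjClasses (Matrix.SpecialLinearGroup (Fin (e + 1)) F) //
        ConjClasses.map Matrix.SpecialLinearGroup.toGL x = C} ≤ Nat.gcd ((k : ℕ) + 1) (Fintype.card F - 1)) ∧
      ∃ (g : GL (Fin (e + 1)) F) (ι : Type u) (_ : Fintype ι) (P : ι → F[X] × ℕ), ConjClasses.mk g = C ∧
        (∀ i, (P i).1.Monic ∧ Irreducible (P i).1 ∧ 1 ≤ (P i).2 ∧ (P i).1.coeff 0 ≠ 0) ∧
        Nonempty (modOf g ≃ₗ[F[X]] (∀ i, blk (P i))) ∧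
        ∀ k, v C k = ∏ i ∈ Finset.univ.filter (fun i => (P i).2 = (k : ℕ) + 1), (P i).1 := by
  classical
  obtain ⟨v, hinj, hv⟩ := exists_tuples (F := F) (n := e + 1)
  choose g ι hι P hgC hP hsum hiso hvP using fun C => (hv C).2
  have hprops : ∀ C i, (v C i).Monic ∧ (v C i).coeff 0 ≠ 0 := by
    intro C i
    rw [hvP, coeff_zero_eq_eval_zero, eval_prod]
    refine ⟨monic_prod_of_monic _ _ fun j _ => (hP C j).1, Finset.prod_ne_zero_iff.2 fun j _ => ?_⟩
    rw [← coeff_zero_eq_eval_zero]
    exact (hP C j).2.2.2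
  have hle : ∀ C j, (P C j).2 ≤ e + 1 := fun C j => by
    obtain ⟨-, hi, -, -⟩ := hP C j
    calc (P C j).2 ≤ (P C j).2 * (P C j).1.natDegree := Nat.le_mul_of_pos_right _ hi.natDegree_pos
      _ ≤ e + 1 := (hsum C) ▸ Finset.single_le_sum (f := fun j => (P C j).2 * (P C j).1.natDegree)
          (fun _ _ => Nat.zero_le _) (Finset.mem_univ j)
  let idx : ∀ C, ι C → Fin (e + 1) := fun C j => ⟨(P C j).2 - 1, by have := hle C j; omega⟩
  have hidx : ∀ C j (k : Fin (e + 1)), idx C j = k ↔ (P C j).2 = (k : ℕ) + 1 := fun C j k => by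
    have := (hP C j).2.2.1
    constructor
    · rintro rfl
      show (P C j).2 = (P C j).2 - 1 + 1
      omega
    · intro h
      exact Fin.ext (show (P C j).2 - 1 = (k : ℕ) by omega)
  have hvP' : ∀ C k, v C k = ∏ j ∈ Finset.univ.filter (fun j => idx C j = k), (P C j).1 := fun C k => by
    rw [hvP]
    refine Finset.prod_congr (Finset.filter_congr fun j _ => (hidx C j k).symm) fun _ _ => rfl
  have hweight : ∀ C, ∑ k : Fin (e + 1), ((k : ℕ) + 1) * (v C k).natDegree = e + 1 := by
    intro C
    refine Eq.trans ?_ (hsum C)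
    rw [← Finset.sum_fiberwise Finset.univ (idx C)]
    refine Finset.sum_congr rfl fun k _ => ?_
    rw [hvP', natDegree_prod_of_monic _ _ fun j _ => (hP C j).1, Finset.mul_sum]
    refine Finset.sum_congr rfl fun j hj => ?_
    rw [(hidx C j k).1 (Finset.mem_filter.1 hj).2]
  have hdet : ∀ C, tdet (v C) = (g C : Matrix (Fin (e + 1)) (Fin (e + 1)) F).det := by
    intro C
    obtain ⟨E⟩ := hiso C
    rw [(det_of_iso (hP C) E).1, tdet, ← Finset.prod_fiberwise Finset.univ (idx C)]
    refine Finset.prod_congr rfl fun k _ => ?_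
    rw [hvP', sgc_prod _ _ fun j _ => (hP C j).1, ← Finset.prod_pow]
    refine Finset.prod_congr rfl fun j hj => ?_
    rw [(hidx C j k).1 (Finset.mem_filter.1 hj).2]
  refine ⟨v, hinj, fun C => ⟨hprops C, hweight C, fun x hx => ?_, fun k hk1 => ?_,
    g C, ι C, hι C, P C, hgC C, hP C, hiso C, fun k => by convert hvP C k⟩⟩
  · obtain ⟨y, rfl⟩ := ConjClasses.mk_surjective x
    rw [← hgC C] at hx
    obtain ⟨h, hh⟩ := isConj_iff.1 (ConjClasses.mk_eq_mk_iff_isConj.1 hx)
    rw [hdet C, ← hh, Units.val_mul, Units.val_mul, Matrix.coe_units_inv, Matrix.det_conj h.isUnit]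
    exact y.prop
  · obtain ⟨j, hj⟩ : ∃ j, (P C j).2 = (k : ℕ) + 1 := by
      by_contra hno
      push Not at hno
      exact hk1 (by rw [hvP, Finset.prod_eq_one fun j hj => absurd (Finset.mem_filter.1 hj).2 (hno j)])
    obtain ⟨E⟩ := hiso C
    rw [← hj]
    have hf := fibre_le (g C) fun c => (det_of_iso (hP C) E).2 j c
    rw [hgC C] at hf
    exact hf

/-- the rests with determinant one -/
noncomputable def oneSet (F : Type u) [Field F] [Fintype F] (e : ℕ) : Finset (Fin (e + 1) → F[X]) := by
  classical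
  exact (restSet F e (e + 1)).filter fun v => tdet v = 1

theorem card_SL_le (e : ℕ) (wr : (Fin (e + 1) → F[X]) → ℕ)
    (hwr : ∀ v : Fin (e + 1) → F[X], (∀ i, (v i).Monic ∧ (v i).coeff 0 ≠ 0) → v 0 = 1 →
      ∑ i : Fin (e + 1), ((i : ℕ) + 1) * (v i).natDegree = e + 1 →
      ∃ k, v k ≠ 1 ∧ Nat.gcd ((k : ℕ) + 1) (Fintype.card F - 1) ≤ wr v) :
    Nat.card (ConjClasses (Matrix.SpecialLinearGroup (Fin (e + 1)) F)) ≤
      restT (Fintype.card F) (e + 1) + ∑ v ∈ oneSet F e, wr v := by
  classical
  haveI : Fintype (ConjClasses (GL (Fin (e + 1)) F)) := Fintype.ofFinite _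
  let π : ConjClasses (Matrix.SpecialLinearGroup (Fin (e + 1)) F) → ConjClasses (GL (Fin (e + 1)) F) :=
    ConjClasses.map Matrix.SpecialLinearGroup.toGL
  obtain ⟨v, hinj, hv⟩ := exists_SL_tuples (F := F) e
  let w : (Fin (e + 1) → F[X]) → ℕ := fun v => if v 0 = 1 then wr v else 1
  have hprops : ∀ C i, (v C i).Monic ∧ (v C i).coeff 0 ≠ 0 := fun C => (hv C).1
  have hweight : ∀ C, ∑ k : Fin (e + 1), ((k : ℕ) + 1) * (v C k).natDegree = e + 1 := fun C => (hv C).2.1
  have hfib : ∀ C, Nat.card {x // π x = C} ≤ if tdet (v C) = 1 then w (v C) else 0 := by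
    intro C
    rcases isEmpty_or_nonempty {x // π x = C} with h | ⟨⟨x, hx⟩⟩
    · rw [Nat.card_of_isEmpty]; exact Nat.zero_le _
    have h1 : tdet (v C) = 1 := (hv C).2.2.1 x hx
    rw [if_pos h1]
    have hk : ∃ k, v C k ≠ 1 ∧ Nat.gcd ((k : ℕ) + 1) (Fintype.card F - 1) ≤ w (v C) := by
      by_cases h0 : v C 0 = 1
      · obtain ⟨k, hk1, hk2⟩ := hwr (v C) (hprops C) h0 (hweight C)
        exact ⟨k, hk1, by simp only [w, if_pos h0]; exact hk2⟩
      · exact ⟨0, h0, by simp [w, if_neg h0]⟩
    obtain ⟨k, hk1, hk2⟩ := hk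
    exact ((hv C).2.2.2.1 k hk1).trans hk2
  have hsplit : Nat.card (ConjClasses (Matrix.SpecialLinearGroup (Fin (e + 1)) F)) =
      ∑ C, Nat.card {x // π x = C} := by
    rw [← Nat.card_sigma]; exact (Nat.card_congr (Equiv.sigmaFiberEquiv π)).symm
  let U1 : Finset (Fin (e + 1) → F[X]) := (Finset.range (e + 1)).biUnion fun i =>
    (restSet F e i).biUnion fun r => (monConst F (e + 1 - i) (tdet r)⁻¹).image fun p => Function.update r 0 p
  have hU1 : U1.card ≤ restT (Fintype.card F) (e + 1) := by
    rw [restT_eq]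
    refine Finset.card_biUnion_le.trans (Finset.sum_le_sum fun i _ => ?_)
    refine Finset.card_biUnion_le.trans ?_
    refine (Finset.sum_le_card_nsmul _ _ (Fintype.card F ^ (e + 1 - 1 - i)) fun r _ => ?_).trans ?_
    · refine Finset.card_image_le.trans ((card_monConst_le F _ _).trans (le_of_eq ?_))
      congr 1
      omega
    · rw [smul_eq_mul, mul_comm]
      exact Nat.mul_le_mul_left _ ((card_restSet_le F e i).trans (rt_le Fintype.one_lt_card i e))
  have hmem : ∀ C, tdet (v C) = 1 → (v C 0 = 1 ∧ v C ∈ oneSet F e) ∨ (v C 0 ≠ 1 ∧ v C ∈ U1) := by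
    intro C h1
    by_cases h0 : v C 0 = 1
    · refine Or.inl ⟨h0, ?_⟩
      rw [oneSet, Finset.mem_filter]
      have h := mem_restSet F e (v C) (hprops C) h0
      rw [hweight C] at h
      exact ⟨h, h1⟩
    · refine Or.inr ⟨h0, ?_⟩
      set r := Function.update (v C) 0 1 with hr
      have hrp : ∀ i, (r i).Monic ∧ (r i).coeff 0 ≠ 0 := fun i => by
        by_cases hi : i = 0
        · subst hi; simp [hr]
        · rw [hr, Function.update_of_ne hi]; exact hprops C i
      have hrm := mem_restSet F e r hrp (by simp [hr])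
      have hd : 0 < (v C 0).natDegree := Nat.pos_of_ne_zero fun h => h0 (eq_one_of_monic_natDegree_zero (hprops C 0).1 h)
      have hw : ∑ i : Fin (e + 1), ((i : ℕ) + 1) * (r i).natDegree = e + 1 - (v C 0).natDegree := by
        have h := hweight C
        rw [Fin.sum_univ_succ] at h ⊢
        simp only [hr, Function.update_self, Function.update_of_ne (Fin.succ_ne_zero _), natDegree_one,
          mul_zero, zero_add, Fin.val_zero, one_mul] at h ⊢
        omega
      rw [hw] at hrm
      have hw' := hweight C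
      rw [Fin.sum_univ_succ, Fin.val_zero, zero_add, one_mul] at hw'
      simp only [U1, Finset.mem_biUnion, Finset.mem_range, Finset.mem_image]
      refine ⟨_, by omega, r, hrm, v C 0, ?_, by simp [hr]⟩
      rw [show e + 1 - (e + 1 - (v C 0).natDegree) = (v C 0).natDegree by omega]
      have hs : sgc (v C 0) = (tdet r)⁻¹ := by
        refine eq_inv_of_mul_eq_one_left ?_
        rw [← h1, tdet, tdet, Fin.prod_univ_succ, Fin.prod_univ_succ]
        simp only [hr, Function.update_self, Function.update_of_ne (Fin.succ_ne_zero _), sgc_one, one_pow,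
          one_mul, Fin.val_zero, zero_add, pow_one]
      rw [← hs]
      exact mem_monConst F (hprops C 0).1 rfl
  rw [hsplit]
  calc ∑ C, Nat.card {x // π x = C} ≤ ∑ C, if tdet (v C) = 1 then w (v C) else 0 :=
        Finset.sum_le_sum fun C _ => hfib C
    _ = ∑ C ∈ Finset.univ.filter (fun C => tdet (v C) = 1), w (v C) := (Finset.sum_filter _ _).symm
    _ = ∑ u ∈ (Finset.univ.filter (fun C => tdet (v C) = 1)).image v, w u :=
        (Finset.sum_image fun _ _ _ _ h => hinj h).symm
    _ = ∑ u ∈ ((Finset.univ.filter (fun C => tdet (v C) = 1)).image v).filter (fun u => ¬ u 0 = 1), w u +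
        ∑ u ∈ ((Finset.univ.filter (fun C => tdet (v C) = 1)).image v).filter (fun u => u 0 = 1), w u := by
        exact (Finset.sum_filter_add_sum_filter_not _ _ _).symm.trans (add_comm _ _)
    _ ≤ restT (Fintype.card F) (e + 1) + ∑ v ∈ oneSet F e, wr v := by
        refine Nat.add_le_add ?_ ?_
        · refine le_trans ?_ hU1
          rw [Finset.sum_congr rfl fun u hu => show w u = 1 from if_neg (Finset.mem_filter.1 hu).2,
            ← Finset.card_eq_sum_ones]
          refine Finset.card_le_card fun u hu => ?_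
          obtain ⟨hu, hu0⟩ := Finset.mem_filter.1 hu
          obtain ⟨C, hC, rfl⟩ := Finset.mem_image.1 hu
          exact ((hmem C (Finset.mem_filter.1 hC).2).resolve_left fun h => hu0 h.1).2
        · rw [Finset.sum_congr rfl fun u hu => show w u = wr u from if_pos (Finset.mem_filter.1 hu).2]
          refine Finset.sum_le_sum_of_subset fun u hu => ?_
          obtain ⟨hu, hu0⟩ := Finset.mem_filter.1 hu
          obtain ⟨C, hC, rfl⟩ := Finset.mem_image.1 hu
          exact ((hmem C (Finset.mem_filter.1 hC).2).resolve_right fun h => h.1 hu0).2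

end GLClassCount2478
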