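import Mathlib
import Cfsg.Agent.GLClassCount.SLCount

/-!
Bounds for the number of classes of `SL(n, q)`.
-/

set_option autoImplicit false

universe u

namespace GLClassCount2478

open Polynomial Module

variable (F : Type u) [Field F] [Fintype F]

lemma monSet_props {m : ℕ} {p : F[X]} (hp : p ∈ monSet F m) : p.Monic ∧ p.natDegree = m ∧ p.coeff 0 ≠ 0 := by
  classical
  rcases m with _ | e
  · simp only [monSet, Finset.mem_singleton] at hp
    subst hp; simp
  · simp only [monSet, Finset.mem_image, Finset.mem_univ, true_and] at hp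
    obtain ⟨v, rfl⟩ := hp
    have hdeg : (∑ i : Fin (e + 1), C ((Fin.cons (v.1 : F) v.2 : Fin (e + 1) → F) i) * X ^ (i : ℕ)).degree <
        ((e + 1 : ℕ) : WithBot ℕ) := degree_sum_fin_lt _
    refine ⟨monic_X_pow_add hdeg, natDegree_eq_of_degree_eq_some ?_, ?_⟩
    · rw [degree_add_eq_left_of_degree_lt] <;> rw [degree_X_pow]
      exact hdeg
    · rw [coeff_add, coeff_X_pow, if_neg (by omega), zero_add, finsetSum_coeff,
        Finset.sum_eq_single (0 : Fin (e + 1))]
      · simp
      · intro i _ hi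
        rw [coeff_C_mul, coeff_X_pow, if_neg (fun h => hi (Fin.ext (by simp [← h]))), mul_zero]
      · simp

lemma restSet_props : ∀ (j n : ℕ) (v : Fin (j + 1) → F[X]), v ∈ restSet F j n →
    v 0 = 1 ∧ (∀ i, (v i).Monic ∧ (v i).coeff 0 ≠ 0) ∧
      ∑ i : Fin (j + 1), ((i : ℕ) + 1) * (v i).natDegree = n
  | 0, n, v, hv => by
    classical
    rw [restSet] at hv
    split_ifs at hv with h
    · rw [Finset.mem_singleton] at hv
      subst hv
      simp [h]
    · simp at hv
  | j + 1, n, v, hv => by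
    classical
    rw [restSet] at hv
    simp only [Finset.mem_biUnion, Finset.mem_range, Finset.mem_image, Finset.mem_product] at hv
    obtain ⟨m, hm, ⟨p, r⟩, ⟨hp, hr⟩, rfl⟩ := hv
    obtain ⟨hr0, hr1, hr2⟩ := restSet_props j _ r hr
    obtain ⟨hp1, hp2, hp3⟩ := monSet_props F hp
    refine ⟨?_, fun i => Fin.lastCases (by simpa using ⟨hp1, hp3⟩) (fun k => by simpa using hr1 k) i, ?_⟩
    · rw [show (0 : Fin (j + 1 + 1)) = Fin.castSucc 0 from rfl, Fin.snoc_castSucc]; exact hr0
    · rw [Fin.sum_univ_castSucc]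
      simp only [Fin.snoc_castSucc, Fin.snoc_last, Fin.val_last, Fin.val_castSucc, hp2]
      rw [hr2]
      have h3 := (Nat.le_div_iff_mul_le (show 0 < j + 2 by omega)).1 (Nat.lt_succ_iff.1 hm)
      have : (j + 2) * m ≤ n := by rw [mul_comm]; exact h3
      rw [show j + 1 + 1 = j + 2 from rfl]
      omega

lemma roots_card_le {k : ℕ} (hk : 0 < k) [DecidableEq F] :
    ((Finset.univ : Finset F).filter fun a => a ^ k = 1).card ≤ Nat.gcd k (Fintype.card F - 1) := by
  have hg : 0 < Nat.gcd k (Fintype.card F - 1) := Nat.gcd_pos_of_pos_left _ hk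
  refine (Finset.card_le_card ?_).trans ((Multiset.toFinset_card_le _).trans (card_nthRoots _ (1 : F)))
  intro a ha
  have ha' := (Finset.mem_filter.1 ha).2
  rw [Multiset.mem_toFinset, mem_nthRoots hg]
  refine pow_gcd_eq_one.2 ⟨ha', FiniteField.pow_card_sub_one_eq_one a ?_⟩
  rintro rfl
  rw [zero_pow hk.ne'] at ha'
  exact zero_ne_one ha'

variable {F}

/-- tuples with one non-trivial entry of given degree and determinant one -/
noncomputable def slot (F : Type u) [Field F] [Fintype F] {n : ℕ} (k : Fin n) (d : ℕ) : Finset (Fin n → F[X]) := by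
  classical
  exact ((Finset.univ : Finset F).filter fun a => a ^ ((k : ℕ) + 1) = 1).biUnion fun a =>
    (monConst F d a).image fun p => Function.update (fun _ => 1) k p

lemma card_slot_le {n : ℕ} (k : Fin n) (d : ℕ) :
    (slot F k d).card ≤ Nat.gcd ((k : ℕ) + 1) (Fintype.card F - 1) * Fintype.card F ^ (d - 1) := by
  classical
  refine Finset.card_biUnion_le.trans ((Finset.sum_le_card_nsmul _ _ (Fintype.card F ^ (d - 1)) fun a _ =>
    Finset.card_image_le.trans (card_monConst_le F d a)).trans ?_)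
  rw [smul_eq_mul]
  exact Nat.mul_le_mul_right _ (roots_card_le F (Nat.succ_pos _))

lemma mem_slot {n : ℕ} (k : Fin n) {v : Fin n → F[X]} (hm : (v k).Monic) (hv : ∀ i, i ≠ k → v i = 1)
    (h1 : tdet v = 1) : v ∈ slot F k (v k).natDegree := by
  classical
  simp only [slot, Finset.mem_biUnion, Finset.mem_filter, Finset.mem_univ, true_and, Finset.mem_image]
  refine ⟨sgc (v k), ?_, v k, mem_monConst F hm rfl, ?_⟩
  · rw [tdet, Finset.prod_eq_single k] at h1
    · exact h1
    · intro i _ hi; rw [hv i hi, sgc_one, one_pow]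
    · simp
  · funext i
    by_cases hi : i = k
    · subst hi; simp
    · rw [Function.update_of_ne hi, hv i hi]

lemma eq_one_of_deg {p : F[X]} (hp : p.Monic) (h : p.natDegree = 0) : p = 1 :=
  eq_one_of_monic_natDegree_zero hp h

theorem card_SL_two_le (hq : 3 ≤ Fintype.card F) :
    Nat.card (ConjClasses (Matrix.SpecialLinearGroup (Fin 2) F)) ≤ Fintype.card F + 4 := by
  classical
  set g := Nat.gcd 2 (Fintype.card F - 1) with hg
  have hg2 : g ≤ 2 := Nat.gcd_le_left _ (by norm_num)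
  refine (card_SL_le (F := F) 1 (fun _ => g) fun v hv h0 hw => ⟨1, fun h => ?_, le_rfl⟩).trans ?_
  · rw [Fin.sum_univ_two, h0, h] at hw; simp at hw
  have hsub : oneSet F 1 ⊆ slot F (1 : Fin 2) 1 := by
    intro v hv
    rw [oneSet, Finset.mem_filter] at hv
    obtain ⟨h0, hp, hw⟩ := restSet_props F _ _ v hv.1
    rw [Fin.sum_univ_two, h0] at hw
    simp at hw
    have := mem_slot (1 : Fin 2) (hp 1).1 (fun i hi => by rw [show i = 0 by omega]; exact h0) hv.2
    rwa [show (v 1).natDegree = 1 by omega] at this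
  rw [Finset.sum_const, smul_eq_mul]
  have h := (Finset.card_le_card hsub).trans (card_slot_le (F := F) (1 : Fin 2) 1)
  rw [show restT (Fintype.card F) (1 + 1) = Fintype.card F from by simp [restT, restB]]
  rw [show ((1 : Fin 2) : ℕ) + 1 = 2 from rfl, ← hg, Nat.sub_self, pow_zero, mul_one] at h
  nlinarith

theorem card_SL_three_le (hq : 3 ≤ Fintype.card F) :
    Nat.card (ConjClasses (Matrix.SpecialLinearGroup (Fin 3) F)) ≤
      Fintype.card F ^ 2 + 3 * Fintype.card F := by
  classical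
  set g := Nat.gcd 3 (Fintype.card F - 1) with hg
  have hg3 : g ≤ 3 := Nat.gcd_le_left _ (by norm_num)
  have hgq : g ≤ Fintype.card F - 1 := Nat.gcd_le_right _ (by omega)
  have hw3 : ∀ v : Fin 3 → F[X], (∀ i, (v i).Monic ∧ (v i).coeff 0 ≠ 0) → v 0 = 1 →
      ∑ i : Fin 3, ((i : ℕ) + 1) * (v i).natDegree = 3 → (v 2).natDegree = 1 ∧ v 1 = 1 := by
    intro v hv h0 hw
    rw [Fin.sum_univ_three, h0] at hw
    simp at hw
    exact ⟨by omega, eq_one_of_deg (hv 1).1 (by omega)⟩
  refine (card_SL_le (F := F) 2 (fun _ => g) fun v hv h0 hw => ⟨2, fun h => ?_, le_rfl⟩).trans ?_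
  · have := (hw3 v hv h0 hw).1; rw [h] at this; simp at this
  have hsub : oneSet F 2 ⊆ slot F (2 : Fin 3) 1 := by
    intro v hv
    rw [oneSet, Finset.mem_filter] at hv
    obtain ⟨h0, hp, hw⟩ := restSet_props F _ _ v hv.1
    obtain ⟨hd, h1⟩ := hw3 v hp h0 hw
    have := mem_slot (2 : Fin 3) (hp 2).1 (fun i hi => by
      rcases (show i = 0 ∨ i = 1 by omega) with rfl | rfl
      · exact h0
      · exact h1) hv.2
    rwa [hd] at this
  rw [Finset.sum_const, smul_eq_mul]
  have h := (Finset.card_le_card hsub).trans (card_slot_le (F := F) (2 : Fin 3) 1)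
  rw [show ((2 : Fin 3) : ℕ) + 1 = 3 from rfl, ← hg, Nat.sub_self, pow_zero, mul_one] at h
  rw [show restT (Fintype.card F) (2 + 1) = Fintype.card F * Fintype.card F + (Fintype.card F - 1) from by
    simp [restT, restB, restP]]
  have h2 : (oneSet F 2).card * g ≤ g * g := Nat.mul_le_mul_right _ h
  rcases Nat.lt_or_ge (Fintype.card F) 4 with h4 | h4
  · have : Fintype.card F = 3 := by omega
    rw [this] at hg ⊢
    have hg1 : g = 1 := by rw [hg]; decide
    rw [hg1] at h h2 ⊢
    omega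
  · have h3 : g * g ≤ 9 := Nat.mul_le_mul hg3 hg3
    rw [sq]
    omega

theorem card_SL_four_le' (hq : 3 ≤ Fintype.card F) :
    Nat.card (ConjClasses (Matrix.SpecialLinearGroup (Fin 4) F)) + 1 ≤
      Fintype.card F ^ 3 + Fintype.card F ^ 2 + 4 * Fintype.card F +
        Nat.gcd 4 (Fintype.card F - 1) * Nat.gcd 4 (Fintype.card F - 1) := by
  classical
  set g := Nat.gcd 2 (Fintype.card F - 1) with hg
  set g' := Nat.gcd 4 (Fintype.card F - 1) with hg'
  have hg2 : g ≤ 2 := Nat.gcd_le_left _ (by norm_num)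
  have hg4 : g' ≤ 4 := Nat.gcd_le_left _ (by norm_num)
  have hgq : g' ≤ Fintype.card F - 1 := Nat.gcd_le_right _ (by omega)
  have hw4 : ∀ v : Fin 4 → F[X], (∀ i, (v i).Monic ∧ (v i).coeff 0 ≠ 0) → v 0 = 1 →
      ∑ i : Fin 4, ((i : ℕ) + 1) * (v i).natDegree = 4 →
      ((v 1).natDegree = 2 ∧ v 2 = 1 ∧ v 3 = 1) ∨ ((v 3).natDegree = 1 ∧ v 1 = 1 ∧ v 2 = 1) := by
    intro v hv h0 hw
    rw [Fin.sum_univ_four, h0] at hw
    simp at hw
    rcases (show ((v 1).natDegree = 2 ∧ (v 2).natDegree = 0 ∧ (v 3).natDegree = 0) ∨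
      ((v 3).natDegree = 1 ∧ (v 1).natDegree = 0 ∧ (v 2).natDegree = 0) by omega) with ⟨a, b, c⟩ | ⟨a, b, c⟩
    · exact Or.inl ⟨a, eq_one_of_deg (hv 2).1 b, eq_one_of_deg (hv 3).1 c⟩
    · exact Or.inr ⟨a, eq_one_of_deg (hv 1).1 b, eq_one_of_deg (hv 2).1 c⟩
  refine le_trans (Nat.add_le_add_right (card_SL_le (F := F) 3 (fun v => if v 1 = 1 then g' else g) fun v hv h0 hw => ?_) 1) ?_
  · rcases hw4 v hv h0 hw with ⟨a, -, -⟩ | ⟨a, b, -⟩
    · have hne : v 1 ≠ 1 := fun h => by rw [h] at a; simp at a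
      exact ⟨1, hne, by rw [if_neg hne]; exact le_rfl⟩
    · exact ⟨3, fun h => by rw [h] at a; simp at a, by rw [if_pos b]; exact le_rfl⟩
  have hsub : oneSet F 3 ⊆ slot F (1 : Fin 4) 2 ∪ slot F (3 : Fin 4) 1 := by
    intro v hv
    rw [oneSet, Finset.mem_filter] at hv
    obtain ⟨h0, hp, hw⟩ := restSet_props F _ _ v hv.1
    rw [Finset.mem_union]
    rcases hw4 v hp h0 hw with ⟨a, b, c⟩ | ⟨a, b, c⟩
    · refine Or.inl ?_
      have := mem_slot (1 : Fin 4) (hp 1).1 (fun i hi => by
        rcases (show i = 0 ∨ i = 2 ∨ i = 3 by omega) with rfl | rfl | rfl <;> assumption) hv.2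
      rwa [a] at this
    · refine Or.inr ?_
      have := mem_slot (3 : Fin 4) (hp 3).1 (fun i hi => by
        rcases (show i = 0 ∨ i = 1 ∨ i = 2 by omega) with rfl | rfl | rfl <;> assumption) hv.2
      rwa [a] at this
  have h1 := card_slot_le (F := F) (1 : Fin 4) 2
  have h3 := card_slot_le (F := F) (3 : Fin 4) 1
  rw [show ((1 : Fin 4) : ℕ) + 1 = 2 from rfl, ← hg, show (2 : ℕ) - 1 = 1 from rfl, pow_one] at h1
  rw [show ((3 : Fin 4) : ℕ) + 1 = 4 from rfl, ← hg', Nat.sub_self, pow_zero, mul_one] at h3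
  have hsum : ∑ v ∈ oneSet F 3, (if v 1 = 1 then g' else g) ≤
      g * Fintype.card F * g + g' * g' := by
    refine (Finset.sum_le_sum_of_subset hsub).trans (((Nat.le_add_right _ _).trans_eq
      (Finset.sum_union_inter (f := fun v : Fin 4 → F[X] => if v 1 = 1 then g' else g))).trans (Nat.add_le_add ?_ ?_))
    · refine (Finset.sum_le_card_nsmul _ _ g fun v hv => ?_).trans ?_
      · simp only [slot, Finset.mem_biUnion, Finset.mem_image] at hv
        obtain ⟨a, -, p, hp, rfl⟩ := hv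
        rw [if_neg]
        rw [Function.update_self]
        intro hp1
        have hdeg : p.natDegree = 2 := by
          simp only [monConst, Finset.mem_image, Finset.mem_univ, true_and] at hp
          obtain ⟨w, rfl⟩ := hp
          refine natDegree_eq_of_degree_eq_some ?_
          rw [degree_add_eq_left_of_degree_lt] <;> rw [degree_X_pow]
          exact degree_sum_fin_lt _
        rw [hp1] at hdeg; simp at hdeg
      · rw [smul_eq_mul]; exact Nat.mul_le_mul_right _ h1
    · refine (Finset.sum_le_card_nsmul _ _ g' fun v hv => ?_).trans ?_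
      · simp only [slot, Finset.mem_biUnion, Finset.mem_image] at hv
        obtain ⟨a, -, p, -, rfl⟩ := hv
        rw [if_pos]
        rw [Function.update_of_ne (by decide)]
      · rw [smul_eq_mul]; exact Nat.mul_le_mul_right _ h3
  refine (Nat.add_le_add_right (Nat.add_le_add_left hsum _) 1).trans ?_
  rw [show restT (Fintype.card F) (3 + 1) = Fintype.card F * (Fintype.card F * Fintype.card F + (Fintype.card F - 1)) +
    (Fintype.card F - 1) from by simp [restT, restB, restP]]
  obtain ⟨u, hu⟩ : ∃ u, Fintype.card F = u + 1 := ⟨Fintype.card F - 1, by omega⟩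
  rw [hu] at hgq hq ⊢
  simp only [Nat.add_sub_cancel] at hgq ⊢
  have hgg : g * (u + 1) * g ≤ 4 * (u + 1) := by
    have := Nat.mul_le_mul hg2 hg2
    nlinarith
  nlinarith

theorem card_SL_four_le (hq : 3 ≤ Fintype.card F) :
    Nat.card (ConjClasses (Matrix.SpecialLinearGroup (Fin 4) F)) ≤
      Fintype.card F ^ 3 + 3 * Fintype.card F ^ 2 := by
  have h := card_SL_four_le' (F := F) hq
  have hgq : Nat.gcd 4 (Fintype.card F - 1) ≤ Fintype.card F - 1 := Nat.gcd_le_right _ (by omega)
  have hg4 : Nat.gcd 4 (Fintype.card F - 1) ≤ 4 := Nat.gcd_le_left _ (by norm_num)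
  rcases Nat.lt_or_ge (Fintype.card F) 4 with h4 | h4
  · have h3 : Fintype.card F = 3 := by omega
    rw [h3] at h hgq ⊢
    norm_num at h ⊢
    omega
  · have := Nat.mul_le_mul hg4 hg4
    nlinarith

theorem card_SL_large_le (hq : 3 ≤ Fintype.card F) {n : ℕ} (hn : 5 ≤ n) :
    Nat.card (ConjClasses (Matrix.SpecialLinearGroup (Fin n) F)) ≤
      Fintype.card F ^ (n - 1) + 3 * Fintype.card F ^ (n - 2) := by
  classical
  obtain ⟨e, rfl⟩ : ∃ e, n = e + 1 := ⟨n - 1, by omega⟩
  refine (card_SL_le (F := F) e (fun _ => Fintype.card F - 1) fun v hv h0 hw => ?_).trans ?_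
  · obtain ⟨k, hk⟩ : ∃ k, v k ≠ 1 := by
      by_contra hno
      push Not at hno
      simp [hno] at hw
    exact ⟨k, hk, Nat.gcd_le_right _ (by omega)⟩
  rw [Finset.sum_const, smul_eq_mul]
  have hB : (oneSet F e).card ≤ restB (Fintype.card F) (e + 1) :=
    (Finset.card_filter_le _ _).trans ((card_restSet_le F e (e + 1)).trans (rt_le (by omega) (e + 1) e))
  refine le_trans (Nat.add_le_add_left (Nat.mul_le_mul_right _ hB) _) ?_
  rw [mul_comm (restB _ _)]
  exact restT_add_le hq hn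

theorem card_SL_binary (hq : Fintype.card F = 2) (n : ℕ) (hn : 1 ≤ n) :
    Nat.card (ConjClasses (Matrix.SpecialLinearGroup (Fin n) F)) ≤ 2 ^ n := by
  classical
  haveI : Subsingleton Fˣ := by
    rw [← Fintype.card_le_one_iff_subsingleton, Fintype.card_units, hq]
  refine le_trans (Nat.card_le_card_of_injective (ConjClasses.map Matrix.SpecialLinearGroup.toGL) ?_)
    (hq ▸ card_le (F := F) hn)
  intro a b h
  obtain ⟨x, rfl⟩ := ConjClasses.mk_surjective a
  obtain ⟨y, rfl⟩ := ConjClasses.mk_surjective b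
  obtain ⟨c, hc⟩ := isConj_iff.1 (ConjClasses.mk_eq_mk_iff_isConj.1 h)
  rw [ConjClasses.mk_eq_mk_iff_isConj, isConj_iff]
  obtain ⟨s, hs⟩ : ∃ s : Matrix.SpecialLinearGroup (Fin n) F, Matrix.SpecialLinearGroup.toGL s = c :=
    ⟨⟨(c : Matrix (Fin n) (Fin n) F),
      congrArg Units.val (Subsingleton.elim (Matrix.GeneralLinearGroup.det c) 1)⟩, Units.ext rfl⟩
  refine ⟨s, Matrix.SpecialLinearGroup.toGL_injective ?_⟩
  rw [map_mul, map_mul, map_inv, hs]
  exact hc

/-- Lower bound. -/
theorem lt_card_SL (n : ℕ) (hn : 2 ≤ n) :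
    Fintype.card F ^ (n - 1) < Nat.card (ConjClasses (Matrix.SpecialLinearGroup (Fin n) F)) := by
  classical
  obtain ⟨e, rfl⟩ : ∃ e, n = e + 1 := ⟨n - 1, by omega⟩
  let cf : (Fin e → F) → Fin (e + 1) → F := fun v => Fin.cons ((-1) ^ (e + 1)) v
  let p : (Fin e → F) → F[X] := fun v => X ^ (e + 1) + ∑ i : Fin (e + 1), C (cf v i) * X ^ (i : ℕ)
  have hcoeff : ∀ v (i : Fin (e + 1)), (p v).coeff (i : ℕ) = cf v i := by
    intro v i
    simp only [p, coeff_add, coeff_X_pow, if_neg i.2.ne, zero_add, finsetSum_coeff, coeff_C_mul, mul_ite, mul_one,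
      mul_zero]
    rw [Finset.sum_eq_single i] <;> simp +contextual [Fin.val_inj, eq_comm]
  have hex : ∀ v, ∃ (g : Matrix.SpecialLinearGroup (Fin (e + 1)) F) (k : ℕ),
      (g : Matrix (Fin (e + 1)) (Fin (e + 1)) F).charpoly = p v ∧ (k : F) ≠ 0 ∧ g ^ k = 1 := by
    intro v
    have hdeg : (∑ i : Fin (e + 1), C (cf v i) * X ^ (i : ℕ)).degree < ((e + 1 : ℕ) : WithBot ℕ) :=
      degree_sum_fin_lt _
    have hm : (p v).Monic := monic_X_pow_add hdeg
    have h0 : (p v).coeff 0 = (-1) ^ (e + 1) := by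
      have := hcoeff v 0
      simpa [cf] using this
    have hd : (p v).natDegree = e + 1 := by
      refine natDegree_eq_of_degree_eq_some ?_
      rw [show p v = X ^ (e + 1) + _ from rfl, degree_add_eq_left_of_degree_lt] <;> rw [degree_X_pow]
      exact hdeg
    obtain ⟨A, k, hk, hA, hAc⟩ := Cfsg.Agent.Classical.SemisimpleConj.exists_matrix (e + 1) (p v) hd hm
      (by rw [h0]; exact pow_ne_zero _ (neg_ne_zero.2 one_ne_zero))
    have hdet : A.det = 1 := by
      rw [Matrix.det_eq_sign_charpoly_coeff, hAc, h0, Fintype.card_fin, ← pow_add,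
        Even.neg_one_pow ⟨e + 1, rfl⟩]
    obtain ⟨g, hg⟩ : ∃ g : Matrix.SpecialLinearGroup (Fin (e + 1)) F,
        (g : Matrix (Fin (e + 1)) (Fin (e + 1)) F) = A := ⟨⟨A, hdet⟩, rfl⟩
    refine ⟨g, k, by rw [hg, hAc], hk, Subtype.ext ?_⟩
    rw [Matrix.SpecialLinearGroup.coe_pow, Matrix.SpecialLinearGroup.coe_one, hg, hA]
  choose g k hg hk hgk using hex
  have h01 : (⟨0, by omega⟩ : Fin (e + 1)) ≠ ⟨1, by omega⟩ := by simp
  let T : Matrix.SpecialLinearGroup (Fin (e + 1)) F :=
    ⟨Matrix.transvection ⟨0, by omega⟩ ⟨1, by omega⟩ 1, Matrix.det_transvection_of_ne _ _ h01 1⟩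
  let f : Option (Fin e → F) → ConjClasses (Matrix.SpecialLinearGroup (Fin (e + 1)) F) :=
    fun o => o.elim (ConjClasses.mk T) fun v => ConjClasses.mk (g v)
  have hT : ∀ v, ConjClasses.mk (g v) ≠ ConjClasses.mk T := by
    intro v h
    obtain ⟨c, hc⟩ := isConj_iff.1 (ConjClasses.mk_eq_mk_iff_isConj.1 h)
    have hTk : T ^ k v = 1 := by rw [← hc, conj_pow, hgk, mul_one, mul_inv_cancel]
    have hpow : ∀ l : ℕ, ((T ^ l : Matrix.SpecialLinearGroup (Fin (e + 1)) F) : Matrix (Fin (e + 1)) (Fin (e + 1)) F) =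
        Matrix.transvection ⟨0, by omega⟩ ⟨1, by omega⟩ (l : F) := by
      intro l
      induction l with
      | zero => simp
      | succ l ih =>
        rw [pow_succ, Matrix.SpecialLinearGroup.coe_mul, ih, Nat.cast_succ]
        exact Matrix.transvection_mul_transvection_same _ _ h01 _ _
    have := congrFun (congrFun ((hpow (k v)).symm.trans (congrArg Subtype.val hTk)) ⟨0, by omega⟩) ⟨1, by omega⟩
    simp [Matrix.transvection, h01] at this
    exact hk v this
  have hinj : Function.Injective f := by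
    rintro (_ | v) (_ | w) h
    · rfl
    · exact absurd h.symm (hT w)
    · exact absurd h (hT v)
    · obtain ⟨c, hc⟩ := isConj_iff.1 (ConjClasses.mk_eq_mk_iff_isConj.1 h)
      have hp : p v = p w := by
        rw [← hg v, ← hg w, ← hc, Matrix.SpecialLinearGroup.coe_mul, Matrix.SpecialLinearGroup.coe_mul]
        rw [mul_assoc, Matrix.charpoly_mul_comm, mul_assoc, ← Matrix.SpecialLinearGroup.coe_mul, inv_mul_cancel,
          Matrix.SpecialLinearGroup.coe_one, mul_one]
      refine congrArg some (funext fun i => ?_)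
      simpa [cf] using (hcoeff v i.succ).symm.trans ((congrArg (coeff · (i.succ : ℕ)) hp).trans (hcoeff w i.succ))
  refine lt_of_lt_of_le ?_ (Nat.card_le_card_of_injective f hinj)
  rw [Nat.card_eq_fintype_card, Fintype.card_option, Fintype.card_fun, Fintype.card_fin, Nat.add_sub_cancel]
  exact Nat.lt_succ_self _

/-- All the bounds. -/
theorem SL_bounds (n : ℕ) (hn : 2 ≤ n) :
    Fintype.card F ^ (n - 1) < Nat.card (ConjClasses (Matrix.SpecialLinearGroup (Fin n) F)) ∧
    2 * Nat.card (ConjClasses (Matrix.SpecialLinearGroup (Fin n) F)) ≤ 5 * Fintype.card F ^ (n - 1) ∧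
    (3 ≤ n → Nat.card (ConjClasses (Matrix.SpecialLinearGroup (Fin n) F)) ≤
      Fintype.card F ^ (n - 1) + 3 * Fintype.card F ^ (n - 2)) := by
  classical
  have hq1 : 1 < Fintype.card F := Fintype.one_lt_card
  refine ⟨lt_card_SL n hn, ?_⟩
  rcases Nat.lt_or_ge (Fintype.card F) 3 with hq | hq
  · have hq2 : Fintype.card F = 2 := by omega
    have h := card_SL_binary hq2 n (by omega)
    obtain ⟨e, rfl⟩ : ∃ e, n = e + 2 := ⟨n - 2, by omega⟩
    rw [hq2, show e + 2 - 1 = e + 1 by omega, show e + 2 - 2 = e by omega, pow_succ] at *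
    rw [pow_succ] at h
    exact ⟨by nlinarith, fun _ => by nlinarith⟩
  have h3 : 3 ≤ n → Nat.card (ConjClasses (Matrix.SpecialLinearGroup (Fin n) F)) ≤
      Fintype.card F ^ (n - 1) + 3 * Fintype.card F ^ (n - 2) := by
    intro hn3
    rcases (show n = 3 ∨ n = 4 ∨ 5 ≤ n by omega) with rfl | rfl | h5
    · simpa using card_SL_three_le hq
    · simpa using card_SL_four_le hq
    · exact card_SL_large_le hq h5
  refine ⟨?_, h3⟩
  rcases (show n = 2 ∨ 3 ≤ n by omega) with rfl | hn3
  · have h := card_SL_two_le (F := F) hq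
    simp only [show (2 : ℕ) - 1 = 1 from rfl, pow_one]
    omega
  · have h := h3 hn3
    obtain ⟨e, rfl⟩ : ∃ e, n = e + 2 := ⟨n - 2, by omega⟩
    rw [show e + 2 - 1 = e + 1 by omega, show e + 2 - 2 = e by omega, pow_succ] at *
    nlinarith [Nat.mul_le_mul_left (Fintype.card F ^ e) hq]

end GLClassCount2478
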