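import Mathlib
import Cfsg.Agent.GLClassCount.SLBounds

/-!
Classes of `SL(n, q)` fixed by multiplication with a scalar.
-/

set_option autoImplicit false

universe u

namespace GLClassCount2478

open Polynomial Module

variable {F : Type u} [Field F]

/-- number of elements killed by a polynomial -/
noncomputable def kerCard (M : Type*) [AddCommGroup M] [Module F[X] M] (a : F[X]) : ℕ :=
  Nat.card {x : M // a • x = 0}

lemma kerCard_congr {M N : Type*} [AddCommGroup M] [Module F[X] M] [AddCommGroup N] [Module F[X] N]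
    (E : M ≃ₗ[F[X]] N) (a : F[X]) : kerCard M a = kerCard N a :=
  Nat.card_congr (E.toEquiv.subtypeEquiv fun x => by
    show a • x = 0 ↔ a • E x = 0
    rw [← map_smul, LinearEquiv.map_eq_zero_iff])

lemma kerCard_pi {ι : Type*} [Fintype ι] {M : ι → Type*} [∀ i, AddCommGroup (M i)] [∀ i, Module F[X] (M i)]
    (a : F[X]) : kerCard (∀ i, M i) a = ∏ i, kerCard (M i) a := by
  simp only [kerCard]
  rw [← Nat.card_pi]
  exact Nat.card_congr
    { toFun := fun x i => ⟨x.1 i, congrFun x.2 i⟩
      invFun := fun y => ⟨fun i => (y i).1, funext fun i => (y i).2⟩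
      left_inv := fun _ => rfl
      right_inv := fun _ => rfl }

lemma kerCard_blk_ne {p r : F[X]} (hp : Irreducible p) (hr : Irreducible r) (hpm : p.Monic) (hrm : r.Monic)
    (hne : p ≠ r) (c : F) (hc : c ≠ 0) (j e : ℕ) : kerCard (blk (r, e)) (C c * p ^ j) = 1 := by
  have hco : IsCoprime (C c * p ^ j) (r ^ e) := by
    refine IsCoprime.mul_left (isCoprime_of_dvd_dvd ?_) (IsCoprime.pow ?_)
    · exact (isUnit_C.2 (IsUnit.mk0 _ hc))
    · exact hp.coprime_iff_not_dvd.2 fun h => hne (eq_of_monic_of_associated hpm hrm (hp.associated_of_dvd hr h))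
  rw [kerCard, Nat.card_eq_one_iff_unique]
  refine ⟨⟨fun x y => Subtype.ext ?_⟩, ⟨⟨0, smul_zero _⟩⟩⟩
  suffices h : ∀ z : blk (r, e), (C c * p ^ j) • z = 0 → z = 0 by rw [h _ x.2, h _ y.2]
  intro z hz
  obtain ⟨a, b, hab⟩ := hco
  obtain ⟨s, rfl⟩ := Submodule.Quotient.mk_surjective _ z
  rw [← Submodule.Quotient.mk_smul, Submodule.Quotient.mk_eq_zero, Submodule.mem_span_singleton] at hz
  obtain ⟨t, ht⟩ := hz
  rw [Submodule.Quotient.mk_eq_zero, Submodule.mem_span_singleton]
  refine ⟨a * t + b * s, ?_⟩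
  simp only [smul_eq_mul] at ht ⊢
  linear_combination a * ht + s * hab
where
  isCoprime_of_dvd_dvd {u v : F[X]} (hu : IsUnit u) : IsCoprime u v := isCoprime_of_isUnit_left hu
  isCoprime_of_isUnit_left {u v : F[X]} (hu : IsUnit u) : IsCoprime u v := by
    obtain ⟨w, hw⟩ := hu.exists_left_inv
    exact ⟨w, 0, by rw [hw, zero_mul, add_zero]⟩

variable [Fintype F]

lemma natCard_blk {r : F[X]} (hrm : r.Monic) (e : ℕ) :
    Nat.card (blk (r, e)) = Fintype.card F ^ (e * r.natDegree) := by
  haveI : Module.Finite F (blk (r, e)) := (hrm.pow e).finite_quotient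
  rw [Module.natCard_eq_pow_finrank (K := F), Nat.card_eq_fintype_card,
    show finrank F (blk (r, e)) = (r ^ e).natDegree from finrank_quotient_span_eq_natDegree, natDegree_pow]

lemma kerCard_blk_eq {r : F[X]} (hrm : r.Monic) (c : F) (hc : c ≠ 0) (j e : ℕ) :
    kerCard (blk (r, e)) (C c * r ^ j) = Fintype.card F ^ (min j e * r.natDegree) := by
  rcases Nat.le_total e j with hej | hje
  · rw [min_eq_right hej, ← natCard_blk hrm e, kerCard]
    refine Nat.card_congr (Equiv.subtypeUnivEquiv fun z => ?_)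
    obtain ⟨s, rfl⟩ := Submodule.Quotient.mk_surjective _ z
    rw [← Submodule.Quotient.mk_smul, Submodule.Quotient.mk_eq_zero, Submodule.mem_span_singleton]
    obtain ⟨d, rfl⟩ := Nat.le.dest hej
    exact ⟨C c * r ^ d * s, by simp only [smul_eq_mul]; rw [pow_add]; ring⟩
  · rw [min_eq_left hje, ← natCard_blk hrm j, kerCard]
    obtain ⟨d, rfl⟩ := Nat.le.dest hje
    let L : blk (r, j) →ₗ[F[X]] blk (r, j + d) :=
      Submodule.mapQ _ _ (LinearMap.mulLeft F[X] (r ^ d)) (by
        rw [Submodule.span_le, Set.singleton_subset_iff]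
        exact Submodule.mem_span_singleton.2 ⟨1, by simp [pow_add, mul_comm]⟩)
    have hL : ∀ s, L (Submodule.Quotient.mk s) = Submodule.Quotient.mk (r ^ d * s) := fun s => rfl
    have hinj : Function.Injective L := by
      rw [← LinearMap.ker_eq_bot, LinearMap.ker_eq_bot']
      intro z hz
      obtain ⟨s, rfl⟩ := Submodule.Quotient.mk_surjective _ z
      rw [hL, Submodule.Quotient.mk_eq_zero, Submodule.mem_span_singleton] at hz
      obtain ⟨t, ht⟩ := hz
      rw [Submodule.Quotient.mk_eq_zero, Submodule.mem_span_singleton]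
      refine ⟨t, mul_left_cancel₀ (pow_ne_zero d hrm.ne_zero) ?_⟩
      simp only [smul_eq_mul] at ht ⊢
      rw [← ht, pow_add]; ring
    refine (Nat.card_congr (Equiv.ofBijective (fun z : blk (r, j) => (⟨L z, ?_⟩ :
      {x : blk (r, j + d) // (C c * r ^ j) • x = 0})) ⟨fun z z' h => hinj (congrArg Subtype.val h), ?_⟩)).symm
    · obtain ⟨s, rfl⟩ := Submodule.Quotient.mk_surjective _ z
      rw [hL, ← Submodule.Quotient.mk_smul, Submodule.Quotient.mk_eq_zero, Submodule.mem_span_singleton]
      exact ⟨C c * s, by simp only [smul_eq_mul]; rw [pow_add]; ring⟩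
    · rintro ⟨x, hx⟩
      obtain ⟨s, rfl⟩ := Submodule.Quotient.mk_surjective _ x
      rw [← Submodule.Quotient.mk_smul, Submodule.Quotient.mk_eq_zero, Submodule.mem_span_singleton] at hx
      obtain ⟨t, ht⟩ := hx
      refine ⟨Submodule.Quotient.mk (C c⁻¹ * t), Subtype.ext ?_⟩
      show L _ = _
      rw [hL]
      congr 1
      refine mul_left_cancel₀ (pow_ne_zero j hrm.ne_zero) ?_
      simp only [smul_eq_mul] at ht
      have hcc : C c⁻¹ * C c = (1 : F[X]) := by rw [← C_mul, inv_mul_cancel₀ hc, map_one]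
      rw [pow_add] at ht
      linear_combination C c⁻¹ * ht + r ^ j * s * hcc

variable {ι : Type u} [Fintype ι]

open scoped Classical in
/-- the exponent of `ker p^j` -/
noncomputable def depth (P : ι → F[X] × ℕ) (p : F[X]) (j : ℕ) : ℕ :=
  ∑ i, if (P i).1 = p then min j (P i).2 else 0

lemma kerCard_pi_blk {P : ι → F[X] × ℕ} (hP : ∀ i, (P i).1.Monic ∧ Irreducible (P i).1)
    {p : F[X]} (hp : Irreducible p) (hpm : p.Monic) (c : F) (hc : c ≠ 0) (j : ℕ) :
    kerCard (∀ i, blk (P i)) (C c * p ^ j) = Fintype.card F ^ (depth P p j * p.natDegree) := by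
  classical
  rw [kerCard_pi, depth, Finset.sum_mul, ← Finset.prod_pow_eq_pow_sum]
  refine Finset.prod_congr rfl fun i _ => ?_
  by_cases h : (P i).1 = p
  · rw [if_pos h, ← h]
    exact kerCard_blk_eq (hP i).1 c hc j (P i).2
  · rw [if_neg h, zero_mul, pow_zero]
    exact kerCard_blk_ne hp (hP i).2 hpm (hP i).1 (Ne.symm h) c hc j (P i).2

/-- the twist of a polynomial by a scalar -/
noncomputable def twist (ζ : F) (p : F[X]) : F[X] := C (ζ⁻¹ ^ p.natDegree) * p.comp (C ζ * X)

lemma natDegree_twist {ζ : F} (hζ : ζ ≠ 0) (p : F[X]) : (twist ζ p).natDegree = p.natDegree := by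
  rw [twist, natDegree_C_mul (pow_ne_zero _ (inv_ne_zero hζ)), natDegree_comp, natDegree_C_mul_X ζ hζ, mul_one]

lemma monic_twist {ζ : F} (hζ : ζ ≠ 0) {p : F[X]} (hp : p.Monic) : (twist ζ p).Monic := by
  rw [Monic, twist, leadingCoeff_mul, leadingCoeff_C,
    leadingCoeff_comp (by rw [natDegree_C_mul_X ζ hζ]; exact one_ne_zero), hp.leadingCoeff, one_mul,
    leadingCoeff_C_mul_X, ← mul_pow, inv_mul_cancel₀ hζ, one_pow]

lemma comp_eq_twist {ζ : F} (hζ : ζ ≠ 0) (p : F[X]) :
    p.comp (C ζ * X) = C (ζ ^ p.natDegree) * twist ζ p := by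
  rw [twist, ← mul_assoc, ← C_mul, ← mul_pow, mul_inv_cancel₀ hζ, one_pow, map_one, one_mul]

lemma twist_twist {ζ : F} (hζ : ζ ≠ 0) (p : F[X]) : twist ζ⁻¹ (twist ζ p) = p := by
  rw [twist, natDegree_twist hζ, twist, mul_comp, C_comp, inv_inv, ← mul_assoc, ← C_mul, ← mul_pow,
    mul_inv_cancel₀ hζ, one_pow, map_one, one_mul, comp_assoc, mul_comp, C_comp, X_comp, ← mul_assoc, ← C_mul,
    mul_inv_cancel₀ hζ, map_one, one_mul, comp_X]

lemma twist_mul {ζ : F} {p r : F[X]} (hp : p.Monic) (hr : r.Monic) :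
    twist ζ (p * r) = twist ζ p * twist ζ r := by
  rw [twist, twist, twist, hp.natDegree_mul hr, mul_comp, pow_add, C_mul]
  ring

lemma twist_prod {ζ : F} {κ : Type*} (s : Finset κ) (f : κ → F[X]) (h : ∀ i ∈ s, (f i).Monic) :
    twist ζ (∏ i ∈ s, f i) = ∏ i ∈ s, twist ζ (f i) := by
  classical
  induction s using Finset.induction_on with
  | empty => simp [twist]
  | insert a t ha ih =>
    rw [Finset.prod_insert ha, Finset.prod_insert ha, twist_mul (h a (Finset.mem_insert_self a t))
      (monic_prod_of_monic _ _ fun i hi => h i (Finset.mem_insert_of_mem hi)),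
      ih fun i hi => h i (Finset.mem_insert_of_mem hi)]

lemma irreducible_twist {ζ : F} (hζ : ζ ≠ 0) {p : F[X]} (hp : Irreducible p) : Irreducible (twist ζ p) := by
  have hne : twist ζ p ≠ 0 := fun h => by
    have := twist_twist hζ p
    rw [h] at this
    simp [twist] at this
    exact hp.ne_zero this.symm
  refine ⟨fun h => hp.not_isUnit ?_, fun a b hab => ?_⟩
  · rw [isUnit_iff] at h ⊢
    obtain ⟨c, hc, hc'⟩ := h
    refine ⟨c, hc, ?_⟩
    rw [← twist_twist hζ p, ← hc', twist]
    simp
  · have hpe : p = C (ζ ^ p.natDegree) * (a.comp (C ζ⁻¹ * X) * b.comp (C ζ⁻¹ * X)) := by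
      conv_lhs => rw [← twist_twist hζ p, twist, natDegree_twist hζ, inv_inv, hab]
      rw [mul_comp]
    rw [← mul_assoc] at hpe
    have hunit : ∀ t : F[X], IsUnit (t.comp (C ζ⁻¹ * X)) → IsUnit t := by
      intro t ht
      rw [isUnit_iff_degree_eq_zero] at ht ⊢
      have h0 : t ≠ 0 := fun e => by simp [e] at ht
      rw [degree_eq_natDegree h0]
      have h1 := natDegree_eq_of_degree_eq_some ht
      rw [natDegree_comp, natDegree_C_mul_X _ (inv_ne_zero hζ), mul_one] at h1
      rw [h1]; rfl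
    rcases hp.isUnit_or_isUnit hpe with h | h
    · exact Or.inl (hunit a (isUnit_of_mul_isUnit_right h))
    · exact Or.inr (hunit b h)

/-- the multiplicities are determined by the depths -/
lemma count_eq_of_depth {P : ι → F[X] × ℕ} (he : ∀ i, 1 ≤ (P i).2) {p p' : F[X]}
    (h : ∀ j, depth P p j = depth P p' j) (k : ℕ) [DecidableEq F[X]] :
    (Finset.univ.filter fun i => (P i).1 = p ∧ (P i).2 = k + 1).card =
      (Finset.univ.filter fun i => (P i).1 = p' ∧ (P i).2 = k + 1).card := by
  have key : ∀ s : F[X], 2 * depth P s (k + 1) = depth P s k + depth P s (k + 2) +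
      (Finset.univ.filter fun i => (P i).1 = s ∧ (P i).2 = k + 1).card := by
    intro s
    rw [Finset.card_filter, depth, depth, depth, Finset.mul_sum, ← Finset.sum_add_distrib, ← Finset.sum_add_distrib]
    refine Finset.sum_congr rfl fun i _ => ?_
    have := he i
    by_cases hs : (P i).1 = s
    · simp only [hs, true_and, if_true]
      split_ifs <;> omega
    · simp [hs]
  have h1 := key p
  have h2 := key p'
  rw [h, h, h] at h1
  omega

variable {n : ℕ}

/-- a scalar in `GL` -/
noncomputable def scal (n : ℕ) (ζ : Fˣ) : GL (Fin n) F := Units.map (algebraMap F (Matrix (Fin n) (Fin n) F)).toMonoidHom ζ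

lemma kerCard_scal (g : GL (Fin n) F) (ζ : Fˣ) (p : F[X]) :
    kerCard (modOf (scal n ζ * g)) p = kerCard (modOf g) (p.comp (C (ζ : F) * X)) := by
  let f := Matrix.toLin' (g : Matrix (Fin n) (Fin n) F)
  let f' := Matrix.toLin' ((scal n ζ * g : GL (Fin n) F) : Matrix (Fin n) (Fin n) F)
  have hf : f' = (ζ : F) • f := by
    simp only [f', f, scal, Units.val_mul, Units.coe_map]
    rw [← map_smul]
    congr 1
    exact (Algebra.smul_def _ _).symm
  let φ : modOf (scal n ζ * g) ≃ modOf g :=
    (Module.AEval'.of f').symm.toEquiv.trans (Module.AEval'.of f).toEquiv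
  refine Nat.card_congr (φ.subtypeEquiv fun x => ?_)
  obtain ⟨v, rfl⟩ := (Module.AEval'.of f').surjective x
  show p • Module.AEval'.of f' v = 0 ↔
    p.comp (C (ζ : F) * X) • Module.AEval'.of f ((Module.AEval'.of f').symm (Module.AEval'.of f' v)) = 0
  rw [LinearEquiv.symm_apply_apply, ← (Module.AEval'.of f').symm.map_eq_zero_iff,
    ← (Module.AEval'.of f).symm.map_eq_zero_iff, Module.AEval.of_symm_smul, Module.AEval.of_symm_smul,
    LinearEquiv.symm_apply_apply, LinearEquiv.symm_apply_apply, aeval_comp, map_mul, aeval_C, aeval_X,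
    ← Algebra.smul_def, ← hf]

lemma kerCard_conj {g h : GL (Fin n) F} (hgh : IsConj g h) (p : F[X]) :
    kerCard (modOf g) p = kerCard (modOf h) p := by
  obtain ⟨c, hc⟩ := isConj_iff.1 hgh
  let f := Matrix.toLin' (g : Matrix (Fin n) (Fin n) F)
  let f' := Matrix.toLin' (h : Matrix (Fin n) (Fin n) F)
  let L : (Fin n → F) →ₗ[F] (Fin n → F) := Matrix.toLin' (c : Matrix (Fin n) (Fin n) F)
  have hcomm : ∀ v, L (f v) = f' (L v) := fun v => by
    simp only [L, f, f', Matrix.toLin'_apply, Matrix.mulVec_mulVec]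
    rw [← Units.val_mul, ← Units.val_mul, show c * g = h * c from by rw [← hc]; group]
  have hp : ∀ v, L (aeval f p v) = aeval f' p (L v) := by
    intro v
    induction p using Polynomial.induction_on' with
    | add a b ha hb => simp [map_add, ha, hb]
    | monomial i s =>
      simp only [aeval_monomial, Module.End.mul_apply, Module.algebraMap_end_apply, map_smul]
      congr 1
      induction i generalizing v with
      | zero => simp
      | succ i ih => rw [pow_succ, pow_succ, Module.End.mul_apply, Module.End.mul_apply, ih, hcomm]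
  have hbij : Function.Bijective L := ⟨fun a b hab => by
      have := congrArg (Matrix.toLin' ((c⁻¹ : GL (Fin n) F) : Matrix (Fin n) (Fin n) F)) hab
      simpa [L, Matrix.mulVec_mulVec] using this, fun b =>
      ⟨Matrix.toLin' ((c⁻¹ : GL (Fin n) F) : Matrix (Fin n) (Fin n) F) b, by simp [L, Matrix.mulVec_mulVec]⟩⟩
  let φ : modOf g ≃ modOf h :=
    (Module.AEval'.of f).symm.toEquiv.trans ((Equiv.ofBijective L hbij).trans (Module.AEval'.of f').toEquiv)
  refine Nat.card_congr (φ.subtypeEquiv fun x => ?_)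
  obtain ⟨v, rfl⟩ := (Module.AEval'.of f).surjective x
  show p • Module.AEval'.of f v = 0 ↔
    p • Module.AEval'.of f' (L ((Module.AEval'.of f).symm (Module.AEval'.of f v))) = 0
  rw [LinearEquiv.symm_apply_apply, ← (Module.AEval'.of f).symm.map_eq_zero_iff,
    ← (Module.AEval'.of f').symm.map_eq_zero_iff, Module.AEval.of_symm_smul, Module.AEval.of_symm_smul,
    LinearEquiv.symm_apply_apply, LinearEquiv.symm_apply_apply]
  show aeval f p v = 0 ↔ aeval f' p (L v) = 0
  rw [← hp]
  exact (map_eq_zero_iff L hbij.1).symm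

/-- entries of the tuple of a class fixed by a scalar are invariant -/
lemma twist_invariant {g : GL (Fin n) F} {P : ι → F[X] × ℕ}
    (hP : ∀ i, (P i).1.Monic ∧ Irreducible (P i).1 ∧ 1 ≤ (P i).2 ∧ (P i).1.coeff 0 ≠ 0)
    (E : modOf g ≃ₗ[F[X]] (∀ i, blk (P i))) {ζ : Fˣ} (hfix : IsConj g (scal n ζ * g)) (k : ℕ) :
    twist (ζ : F) (∏ i ∈ Finset.univ.filter (fun i => (P i).2 = k + 1), (P i).1) =
      ∏ i ∈ Finset.univ.filter (fun i => (P i).2 = k + 1), (P i).1 := by
  classical
  have hζ : (ζ : F) ≠ 0 := ζ.ne_zero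
  have hdepth : ∀ p : F[X], Irreducible p → p.Monic → ∀ j, depth P p j = depth P (twist (ζ : F) p) j := by
    intro p hp hpm j
    have h1 : kerCard (modOf g) (C (1 : F) * p ^ j) = kerCard (modOf g) ((C (1 : F) * p ^ j).comp (C (ζ : F) * X)) :=
      (kerCard_conj hfix _).trans (kerCard_scal g ζ _)
    rw [kerCard_congr E, kerCard_congr E, mul_comp, pow_comp, C_comp, comp_eq_twist hζ, mul_pow, ← C_pow,
      ← mul_assoc, ← C_mul, kerCard_pi_blk (fun i => ⟨(hP i).1, (hP i).2.1⟩) hp hpm 1 one_ne_zero,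
      kerCard_pi_blk (fun i => ⟨(hP i).1, (hP i).2.1⟩) (irreducible_twist hζ hp) (monic_twist hζ hpm) _
        (mul_ne_zero one_ne_zero (pow_ne_zero _ (pow_ne_zero _ hζ))), natDegree_twist hζ] at h1
    exact Nat.eq_of_mul_eq_mul_right hp.natDegree_pos (Nat.pow_right_injective Fintype.one_lt_card h1)
  set s : Multiset F[X] := (Finset.univ.filter (fun i => (P i).2 = k + 1)).val.map fun i => (P i).1 with hs
  have hprod : ∏ i ∈ Finset.univ.filter (fun i => (P i).2 = k + 1), (P i).1 = s.prod := Finset.prod_eq_multiset_prod _ _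
  have hcount : ∀ p, Multiset.count p s = (Finset.univ.filter fun i => (P i).1 = p ∧ (P i).2 = k + 1).card := by
    intro p
    rw [hs, Multiset.count_map, Finset.card_def, Finset.filter_val, Finset.filter_val, Multiset.filter_filter]
    congr 2
    funext i
    rw [eq_comm (a := p)]
  have hmap : s.map (twist (ζ : F)) = s := by
    ext p
    by_cases hp : Irreducible p ∧ p.Monic
    · have e : p = twist (ζ : F) (twist (ζ : F)⁻¹ p) := by
        have := twist_twist (inv_ne_zero hζ) p
        rw [inv_inv] at this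
        exact this.symm
      conv_lhs => rw [e]
      rw [Multiset.count_map_eq_count' _ _ (fun a b hab => by
        rw [← twist_twist hζ a, hab, twist_twist hζ]), hcount, hcount]
      refine count_eq_of_depth (fun i => (hP i).2.2.1) (fun j => ?_) k
      rw [hdepth _ (irreducible_twist (inv_ne_zero hζ) hp.1) (monic_twist (inv_ne_zero hζ) hp.2) j, ← e]
    · rw [Multiset.count_eq_zero.2, Multiset.count_eq_zero.2]
      · intro hm
        obtain ⟨i, -, rfl⟩ := Multiset.mem_map.1 hm
        exact hp ⟨(hP i).2.1, (hP i).1⟩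
      · intro hm
        obtain ⟨r, hr, rfl⟩ := Multiset.mem_map.1 hm
        obtain ⟨i, -, rfl⟩ := Multiset.mem_map.1 hr
        exact hp ⟨irreducible_twist hζ (hP i).2.1, monic_twist hζ (hP i).1⟩
  rw [twist_prod _ _ fun i _ => (hP i).1, Finset.prod_eq_multiset_prod, hprod]
  conv_rhs => rw [← hmap, hs, Multiset.map_map]
  rfl

omit [Fintype F] in
/-- invariant polynomials are polynomials in `X ^ o` -/
lemma eq_expand_contract {ζ : F} {o : ℕ} (hζ : IsPrimitiveRoot ζ o) (ho : 0 < o) {p : F[X]}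
    (h0 : p.coeff 0 ≠ 0) (hinv : twist ζ p = p) : p = expand F o (contract o p) := by
  have hζ0 : ζ ≠ 0 := hζ.ne_zero ho.ne'
  have hdeg : ∀ i, p.coeff i ≠ 0 → ζ ^ i = ζ ^ p.natDegree := by
    intro i hi
    have h := congrArg (coeff · i) hinv
    simp only [twist, coeff_C_mul, comp_C_mul_X_coeff] at h
    have h2 : ζ⁻¹ ^ p.natDegree * ζ ^ i * p.coeff i = 1 * p.coeff i := by
      rw [one_mul]; linear_combination h
    have h3 := mul_right_cancel₀ hi h2
    rw [inv_pow, inv_mul_eq_one₀ (pow_ne_zero _ hζ0)] at h3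
    exact h3.symm
  have hd : ζ ^ p.natDegree = 1 := by rw [← hdeg 0 h0, pow_zero]
  ext i
  rw [coeff_expand ho]
  split_ifs with hdiv
  · rw [coeff_contract ho.ne', Nat.div_mul_cancel hdiv]
  · by_contra hne
    exact hdiv ((hζ.pow_eq_one_iff_dvd i).1 ((hdeg i hne).trans hd))

end GLClassCount2478
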