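import Mathlib
import Cfsg.Agent.GLClassCount.SLFixed
import Cfsg.Agent.Lib.Classical.Linear

/-!
Bounds for the number of classes of `PSL(n, q)`.
-/

set_option autoImplicit false

universe u

namespace GLClassCount2478

open Polynomial Module

variable {F : Type u} [Field F] [Fintype F]

lemma restB_le_pow (hq : 3 ≤ Fintype.card F) (m : ℕ) (hm : 2 ≤ m) :
    restT (Fintype.card F) m + (Fintype.card F - 1) * restB (Fintype.card F) m ≤ Fintype.card F ^ m := by
  set q := Fintype.card F
  rcases (show m = 2 ∨ m = 3 ∨ m = 4 ∨ 5 ≤ m by omega) with rfl | rfl | rfl | h5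
  · obtain ⟨u, hu⟩ : ∃ u, q = u + 1 := ⟨q - 1, by omega⟩
    simp [restT, restB, restP, hu]
    nlinarith
  · obtain ⟨u, hu⟩ : ∃ u, q = u + 1 := ⟨q - 1, by omega⟩
    simp [restT, restB, restP, hu]
    nlinarith [Nat.mul_le_mul_left (u * u) (show 2 ≤ u by omega)]
  · rw [show restT q 4 = q * restT q 3 + restB q 3 from rfl, restB_four (by omega), restB_three,
      show restT q 3 = q * q + (q - 1) by simp [restT, restB, restP]]
    obtain ⟨u, hu⟩ : ∃ u, q = u + 1 := ⟨q - 1, by omega⟩
    rw [hu, Nat.add_sub_cancel]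
    have := Nat.sub_le ((u + 1) * (u + 1)) 1
    nlinarith [Nat.mul_le_mul_left u this, Nat.mul_le_mul_left (u * u * u) (show 2 ≤ u by omega)]
  · refine (restT_add_le hq h5).trans ?_
    obtain ⟨e, rfl⟩ : ∃ e, m = e + 2 := ⟨m - 2, by omega⟩
    rw [show e + 2 - 1 = e + 1 by omega, show e + 2 - 2 = e by omega, pow_succ, show e + 2 = (e + 1) + 1 from rfl,
      pow_succ, pow_succ]
    have h1 : q ^ e * q * 3 ≤ q ^ e * q * q := Nat.mul_le_mul_left _ hq
    have h2 : q ^ e * 3 ≤ q ^ e * q := Nat.mul_le_mul_left _ hq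
    generalize q ^ e * q * q = x at *
    omega

/-- expanded tuples -/
noncomputable def expTup {m : ℕ} (n o : ℕ) (u : Fin m → F[X]) : Fin n → F[X] := fun k =>
  if h : (k : ℕ) < m then expand F o (u ⟨k, h⟩) else 1

/-- the number of classes of `SL` fixed by a scalar of order `o` -/
theorem card_fixed_le {e M o : ℕ} (ho : 2 ≤ o) (hn : e + 1 = o * (M + 1)) {ζ : Fˣ} (hζ : orderOf ζ = o)
    (z : Matrix.SpecialLinearGroup (Fin (e + 1)) F)
    (hz : Matrix.SpecialLinearGroup.toGL z = scal (e + 1) ζ) :
    Nat.card {x : ConjClasses (Matrix.SpecialLinearGroup (Fin (e + 1)) F) //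
      ∀ g, ConjClasses.mk g = x → ConjClasses.mk (z * g) = x} ≤
      restT (Fintype.card F) (M + 1) + (Fintype.card F - 1) * restB (Fintype.card F) (M + 1) := by
  classical
  set q := Fintype.card F
  have hq1 : 1 < q := Fintype.one_lt_card
  have hprim : IsPrimitiveRoot (ζ : F) o := IsPrimitiveRoot.coe_units_iff.2 (hζ ▸ IsPrimitiveRoot.orderOf ζ)
  haveI : Fintype (ConjClasses (GL (Fin (e + 1)) F)) := Fintype.ofFinite _
  obtain ⟨v, hinj, hv⟩ := exists_SL_tuples (F := F) e
  let π : ConjClasses (Matrix.SpecialLinearGroup (Fin (e + 1)) F) → ConjClasses (GL (Fin (e + 1)) F) :=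
    ConjClasses.map Matrix.SpecialLinearGroup.toGL
  let Fix : Finset (ConjClasses (GL (Fin (e + 1)) F)) := Finset.univ.filter fun C =>
    (∃ x, π x = C) ∧ ∀ g, ConjClasses.mk g = C → IsConj g (scal (e + 1) ζ * g)
  have hFix : ∀ x : {x : ConjClasses (Matrix.SpecialLinearGroup (Fin (e + 1)) F) //
      ∀ g, ConjClasses.mk g = x → ConjClasses.mk (z * g) = x}, π x.1 ∈ Fix := by
    rintro ⟨x, hx⟩
    simp only [Fix, Finset.mem_filter, Finset.mem_univ, true_and]
    refine ⟨⟨x, rfl⟩, fun g hg => ?_⟩
    obtain ⟨y, rfl⟩ := ConjClasses.mk_surjective x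
    have h1 : IsConj g (Matrix.SpecialLinearGroup.toGL y) := ConjClasses.mk_eq_mk_iff_isConj.1 hg
    have h2 : IsConj (Matrix.SpecialLinearGroup.toGL y) (scal (e + 1) ζ * Matrix.SpecialLinearGroup.toGL y) := by
      rw [← hz, ← map_mul]
      exact (Matrix.SpecialLinearGroup.toGL (n := Fin (e + 1)) (R := F)).map_isConj
        (ConjClasses.mk_eq_mk_iff_isConj.1 (hx y rfl)).symm
    obtain ⟨c, hc⟩ := isConj_iff.1 h1.symm
    have hcomm : c * scal (e + 1) ζ = scal (e + 1) ζ * c := by
      refine Units.ext ?_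
      simp only [scal, Units.val_mul, Units.coe_map]
      exact (Algebra.commutes _ _).symm
    refine (h1.trans h2).trans (isConj_iff.2 ⟨c, ?_⟩)
    rw [← hc, ← mul_assoc, hcomm]
    group
  have hsplit : Nat.card {x : ConjClasses (Matrix.SpecialLinearGroup (Fin (e + 1)) F) //
      ∀ g, ConjClasses.mk g = x → ConjClasses.mk (z * g) = x} ≤ ∑ C ∈ Fix, Nat.card {x // π x = C} := by
    rw [← Finset.sum_coe_sort Fix (fun C => Nat.card {x // π x = C}), ← Nat.card_sigma]
    refine Nat.card_le_card_of_injective (fun x => ⟨⟨π x.1, hFix x⟩, x.1, rfl⟩) fun a b h => ?_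
    exact Subtype.ext (congrArg (fun s : (C : Fix) × {x // π x = C.1} => s.2.1) h)
  -- tuples of fixed classes
  let w : (Fin (e + 1) → F[X]) → ℕ := fun v => if v 0 = 1 then q - 1 else 1
  have hfib : ∀ C, Nat.card {x // π x = C} ≤ w (v C) := by
    intro C
    obtain ⟨hp, hw, -, hf, -⟩ := hv C
    by_cases h0 : v C 0 = 1
    · obtain ⟨k, hk⟩ : ∃ k, v C k ≠ 1 := by
        by_contra hno
        push Not at hno
        simp [hno] at hw
      simp only [w, if_pos h0]
      exact (hf k hk).trans (Nat.gcd_le_right _ (by omega))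
    · simp only [w, if_neg h0]
      exact (hf 0 h0).trans (by simp)
  let sg : ℕ → F := fun d => (-1) ^ d * (-1) ^ (o * d)
  let U1 : Finset (Fin (e + 1) → F[X]) := (Finset.range (M + 1)).biUnion fun i =>
    (restSet F M i).biUnion fun r => (monConst F (M + 1 - i) (sg (M + 1 - i) * (tdet (expTup (e + 1) o r))⁻¹)).image
      fun p => expTup (e + 1) o (Function.update r 0 p)
  let U0 : Finset (Fin (e + 1) → F[X]) := (restSet F M (M + 1)).image (expTup (e + 1) o)
  have hmem : ∀ C ∈ Fix, (v C 0 = 1 ∧ v C ∈ U0) ∨ (v C 0 ≠ 1 ∧ v C ∈ U1) := by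
    intro C hC
    simp only [Fix, Finset.mem_filter, Finset.mem_univ, true_and] at hC
    obtain ⟨⟨x, hx⟩, hconj⟩ := hC
    obtain ⟨hp, hw, hd, -, g, ι, hι, P, hgC, hP, ⟨E⟩, hvP⟩ := hv C
    have hdet : tdet (v C) = 1 := hd x hx
    have hinv : ∀ k, twist (ζ : F) (v C k) = v C k := fun k => by
      rw [hvP]
      convert twist_invariant hP E (hconj g hgC) (k : ℕ)
    have hexp : ∀ k, v C k = expand F o (contract o (v C k)) := fun k =>
      eq_expand_contract hprim (by omega) (hp k).2 (hinv k)
    have hcm : ∀ k, (contract o (v C k)).Monic ∧ (contract o (v C k)).coeff 0 ≠ 0 := fun k => by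
      refine ⟨?_, ?_⟩
      · have h := (hp k).1
        rw [hexp k] at h
        exact (monic_expand_iff (by omega)).1 h
      · rw [coeff_contract (by omega), zero_mul]; exact (hp k).2
    have hdeg : ∀ k, (v C k).natDegree = o * (contract o (v C k)).natDegree := fun k => by
      conv_lhs => rw [hexp k]
      rw [natDegree_expand, mul_comm]
    have hsum : ∑ k : Fin (e + 1), ((k : ℕ) + 1) * (contract o (v C k)).natDegree = M + 1 := by
      refine Nat.eq_of_mul_eq_mul_left (show 0 < o by omega) ?_
      rw [← hn]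
      refine Eq.trans ?_ hw
      rw [Finset.mul_sum]
      exact Finset.sum_congr rfl fun k _ => by rw [hdeg k]; ring
    have hMe : M + 1 ≤ e + 1 := by rw [hn]; exact Nat.le_mul_of_pos_left _ (by omega)
    have hbig : ∀ k : Fin (e + 1), M + 1 ≤ (k : ℕ) → v C k = 1 := by
      intro k hk
      refine eq_one_of_deg (hp k).1 ?_
      rw [hdeg k]
      by_contra hne
      have h1 : 1 ≤ (contract o (v C k)).natDegree := Nat.pos_of_ne_zero fun h => hne (by rw [h, mul_zero])
      have h2 : ((k : ℕ) + 1) * (contract o (v C k)).natDegree ≤ M + 1 := hsum ▸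
        Finset.single_le_sum (f := fun k : Fin (e + 1) => ((k : ℕ) + 1) * (contract o (v C k)).natDegree)
          (fun _ _ => Nat.zero_le _) (Finset.mem_univ k)
      nlinarith
    let r : Fin (M + 1) → F[X] := fun k => contract o (v C (Fin.castLE hMe k))
    have hvr : v C = expTup (e + 1) o r := by
      funext k
      simp only [expTup, r]
      split_ifs with hk
      · exact hexp k
      · exact hbig k (by omega)
    have hrsum : ∑ k : Fin (M + 1), ((k : ℕ) + 1) * (r k).natDegree = M + 1 := by
      refine Eq.trans ?_ hsum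
      refine Finset.sum_of_injOn (Fin.castLE hMe) (fun a _ b _ h => Fin.castLE_injective hMe h)
        (fun a _ => Finset.mem_univ _) (fun k _ hk => ?_) (fun k _ => rfl)
      have h1 : M + 1 ≤ (k : ℕ) := by
        by_contra hlt
        exact hk ⟨⟨k, by omega⟩, Finset.mem_coe.2 (Finset.mem_univ _), Fin.ext rfl⟩
      have h2 := hdeg k
      rw [show (v C k).natDegree = 0 by rw [hbig k h1, natDegree_one]] at h2
      rw [(Nat.mul_eq_zero.1 h2.symm).resolve_left (by omega), mul_zero]
    have hv0 : v C 0 = expand F o (r 0) := by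
      rw [hvr]
      simp [expTup]
    by_cases h0 : v C 0 = 1
    · refine Or.inl ⟨h0, ?_⟩
      simp only [U0, Finset.mem_image]
      refine ⟨r, ?_, hvr.symm⟩
      have hr0 : r 0 = 1 := by
        have h := congrArg natDegree hv0
        rw [h0, natDegree_one, natDegree_expand] at h
        refine eq_one_of_deg (hcm _).1 ?_
        exact (Nat.mul_eq_zero.1 h.symm).resolve_right (by omega)
      have h := mem_restSet F M r (fun i => hcm _) hr0
      rwa [hrsum] at h
    · refine Or.inr ⟨h0, ?_⟩
      set r' := Function.update r 0 1 with hr'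
      have hrm := mem_restSet F M r' (fun i => by
        by_cases hi : i = 0
        · subst hi; simp [hr']
        · rw [hr', Function.update_of_ne hi]; exact hcm _) (by simp [hr'])
      have hd0 : 0 < (r 0).natDegree := Nat.pos_of_ne_zero fun h => h0 (by
        have hr1 : r 0 = 1 := eq_one_of_deg (hcm _).1 h
        rw [hv0, hr1, map_one])
      have hw0 : ∑ i : Fin (M + 1), ((i : ℕ) + 1) * (r' i).natDegree = M + 1 - (r 0).natDegree := by
        have h := hrsum
        rw [Fin.sum_univ_succ] at h ⊢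
        simp only [hr', Function.update_self, Function.update_of_ne (Fin.succ_ne_zero _), natDegree_one,
          mul_zero, zero_add, Fin.val_zero, one_mul] at h ⊢
        omega
      rw [hw0] at hrm
      have hle0 : (r 0).natDegree ≤ M + 1 := by
        have h := hrsum
        rw [Fin.sum_univ_succ, Fin.val_zero, zero_add, one_mul] at h
        omega
      simp only [U1, Finset.mem_biUnion, Finset.mem_range, Finset.mem_image]
      refine ⟨_, by omega, r', hrm, r 0, ?_, ?_⟩
      · rw [show M + 1 - (M + 1 - (r 0).natDegree) = (r 0).natDegree by omega]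
        have htd : sgc (v C 0) * tdet (expTup (e + 1) o r') = 1 := by
          rw [← hdet, tdet, tdet, Fin.prod_univ_succ, Fin.prod_univ_succ]
          have e0 : expTup (e + 1) o r' 0 = 1 := by simp [expTup, hr']
          have e1 : ∀ k : Fin e, expTup (e + 1) o r' k.succ = v C k.succ := fun k => by
            rw [hvr]
            simp only [expTup]
            split_ifs with hk
            · rw [hr', Function.update_of_ne (by intro h; have := congrArg Fin.val h; simp at this)]
            · rfl
          simp only [e0, e1, sgc_one, one_pow, one_mul, Fin.val_zero, zero_add, pow_one]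
        have hs : sgc (r 0) = sg (r 0).natDegree * (tdet (expTup (e + 1) o r'))⁻¹ := by
          rw [← eq_inv_of_mul_eq_one_left htd, hv0]
          simp only [sgc, sg, natDegree_expand]
          rw [mul_comm (r 0).natDegree o, show (expand F o (r 0)).coeff 0 = (r 0).coeff 0 by
            rw [coeff_expand (by omega), if_pos (dvd_zero o), Nat.zero_div]]
          rw [← mul_assoc, mul_assoc ((-1 : F) ^ (r 0).natDegree), ← pow_add,
            Even.neg_one_pow ⟨o * (r 0).natDegree, rfl⟩, mul_one]
        rw [← hs]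
        exact mem_monConst F (hcm _).1 rfl
      · rw [hr', Function.update_idem, Function.update_eq_self]
        exact hvr.symm
  have hU1 : U1.card ≤ restT q (M + 1) := by
    rw [restT_eq]
    refine Finset.card_biUnion_le.trans (Finset.sum_le_sum fun i _ => ?_)
    refine Finset.card_biUnion_le.trans ?_
    refine (Finset.sum_le_card_nsmul _ _ (q ^ (M + 1 - 1 - i)) fun r _ => ?_).trans ?_
    · refine Finset.card_image_le.trans ((card_monConst_le F _ _).trans (le_of_eq ?_))
      congr 1
      omega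
    · rw [smul_eq_mul, mul_comm]
      exact Nat.mul_le_mul_left _ ((card_restSet_le F M i).trans (rt_le Fintype.one_lt_card i M))
  have hU0 : U0.card ≤ restB q (M + 1) :=
    Finset.card_image_le.trans ((card_restSet_le F M (M + 1)).trans (rt_le Fintype.one_lt_card (M + 1) M))
  refine hsplit.trans ((Finset.sum_le_sum fun C _ => hfib C).trans ?_)
  rw [← Finset.sum_filter_add_sum_filter_not Fix (fun C => ¬ v C 0 = 1)]
  refine Nat.add_le_add ?_ ?_
  · rw [Finset.sum_congr rfl fun C hC => show w (v C) = 1 from if_neg (Finset.mem_filter.1 hC).2,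
      ← Finset.card_eq_sum_ones]
    refine le_trans (Finset.card_le_card_of_injOn v ?_ hinj.injOn) hU1
    intro C hC
    rw [Finset.mem_coe, Finset.mem_filter] at hC
    exact ((hmem C hC.1).resolve_left fun h => hC.2 h.1).2
  · rw [Finset.sum_congr rfl fun C hC => show w (v C) = q - 1 from if_pos (not_not.1 (Finset.mem_filter.1 hC).2),
      Finset.sum_const, smul_eq_mul, mul_comm]
    refine Nat.mul_le_mul_left _ (le_trans (Finset.card_le_card_of_injOn v ?_ hinj.injOn) hU0)
    intro C hC
    rw [Finset.mem_coe, Finset.mem_filter] at hC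
    exact ((hmem C hC.1).resolve_right fun h => h.1 (not_not.1 hC.2)).2

lemma four_arith {u g S K : ℕ} (hu : 2 ≤ u) (hg : g ≤ 4) (hgu : g ∣ u) (hS : S ≤ (g - 1) * (u + 1 + u * u))
    (hK : K + 1 ≤ (u + 1) ^ 3 + (u + 1) ^ 2 + 4 * (u + 1) + g * g) :
    K + S ≤ (u + 1) ^ 3 + 5 * (u + 1) ^ 2 := by
  rcases (show u = 2 ∨ u = 3 ∨ 4 ≤ u by omega) with rfl | rfl | hu4
  · have : g ≤ 2 := Nat.le_of_dvd (by norm_num) hgu
    interval_cases g <;> norm_num at hS hK ⊢ <;> omega
  · have : g ≤ 3 := Nat.le_of_dvd (by norm_num) hgu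
    interval_cases g <;> norm_num at hS hK ⊢ <;> omega
  · have h1 : g * g ≤ 16 := Nat.mul_le_mul hg hg
    have h2 : (g - 1) * (u + 1 + u * u) ≤ 3 * (u + 1 + u * u) := Nat.mul_le_mul_right _ (by omega)
    nlinarith [Nat.mul_le_mul_right u hu4]

set_option maxHeartbeats 2000000 in
theorem PSL_bounds (n : ℕ) (hn : 2 ≤ n) :
    Fintype.card F ^ (n - 1) ≤ Nat.gcd n (Fintype.card F - 1) *
      Nat.card (ConjClasses (Matrix.ProjectiveSpecialLinearGroup (Fin n) F)) ∧
    Nat.gcd n (Fintype.card F - 1) * Nat.card (ConjClasses (Matrix.ProjectiveSpecialLinearGroup (Fin n) F)) ≤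
      Fintype.card F ^ (n - 1) + 5 * Fintype.card F ^ (n - 2) := by
  classical
  obtain ⟨e, rfl⟩ : ∃ e, n = e + 1 := ⟨n - 1, by omega⟩
  set q := Fintype.card F with hq
  have hq1 : 1 < q := Fintype.one_lt_card
  set Z := Subgroup.center (Matrix.SpecialLinearGroup (Fin (e + 1)) F) with hZdef
  have hZ : Nat.card Z = Nat.gcd (e + 1) (q - 1) := by
    have h := Nat.card_congr (Matrix.SpecialLinearGroup.center_equiv_rootsOfUnity (n := Fin (e + 1)) (R := F)).toEquiv
    rw [hZdef, h, Cfsg.Agent.Classical.Linear.natCard_rootsOfUnity_eq_gcd]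
    simp [hq]
  rw [← hZ]
  have hSL := SL_bounds (F := F) (e + 1) hn
  rw [← hq] at hSL
  constructor
  · refine (le_of_lt hSL.1).trans ?_
    rw [← Nat.card_prod]
    refine Nat.card_le_card_of_surjective (fun zc : Z × ConjClasses (Matrix.ProjectiveSpecialLinearGroup (Fin (e + 1)) F) =>
      ConjClasses.mk (zc.1.1 * Function.surjInv
        ((ConjClasses.mk_surjective).comp (QuotientGroup.mk'_surjective Z)) zc.2)) ?_
    intro x
    obtain ⟨y, rfl⟩ := ConjClasses.mk_surjective x
    set C : ConjClasses (Matrix.ProjectiveSpecialLinearGroup (Fin (e + 1)) F) := ConjClasses.mk (QuotientGroup.mk' Z y)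
    set s := Function.surjInv ((ConjClasses.mk_surjective).comp (QuotientGroup.mk'_surjective Z)) C
    have hs : ConjClasses.mk (QuotientGroup.mk' Z s) = C :=
      Function.surjInv_eq (f := ConjClasses.mk ∘ QuotientGroup.mk' Z) _ C
    obtain ⟨c, hc⟩ := isConj_iff.1 (ConjClasses.mk_eq_mk_iff_isConj.1 hs)
    obtain ⟨c, rfl⟩ := QuotientGroup.mk'_surjective Z c
    rw [← map_inv, ← map_mul, ← map_mul] at hc
    obtain ⟨w, hw, hwy⟩ := (QuotientGroup.mk'_eq_mk' Z).1 hc
    refine ⟨(⟨w, hw⟩, C), ?_⟩
    rw [ConjClasses.mk_eq_mk_iff_isConj, isConj_iff]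
    refine ⟨c, ?_⟩
    show c * (w * s) * c⁻¹ = y
    rw [← hwy, ← mul_assoc, Subgroup.mem_center_iff.1 hw c, mul_assoc, mul_assoc]
    rw [Subgroup.mem_center_iff.1 hw (c * s * c⁻¹), mul_assoc]
  · -- Burnside
    letI act : MulAction Z (ConjClasses (Matrix.SpecialLinearGroup (Fin (e + 1)) F)) :=
      { smul := fun z => Quotient.map' (fun g => (z : Matrix.SpecialLinearGroup (Fin (e + 1)) F) * g) fun a b h => by
          obtain ⟨c, hc⟩ := isConj_iff.1 h
          refine isConj_iff.2 ⟨c, ?_⟩
          rw [← hc, ← mul_assoc, Subgroup.mem_center_iff.1 z.2 c]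
          simp only [mul_assoc]
        one_smul := fun x => by
          obtain ⟨y, rfl⟩ := ConjClasses.mk_surjective x
          exact congrArg ConjClasses.mk (one_mul y)
        mul_smul := fun a b x => by
          obtain ⟨y, rfl⟩ := ConjClasses.mk_surjective x
          exact congrArg ConjClasses.mk (mul_assoc (a : Matrix.SpecialLinearGroup (Fin (e + 1)) F) _ y) }
    haveI : Fintype Z := Fintype.ofFinite _
    haveI : Fintype (ConjClasses (Matrix.SpecialLinearGroup (Fin (e + 1)) F)) := Fintype.ofFinite _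
    haveI : ∀ a : Z, Fintype (MulAction.fixedBy (ConjClasses (Matrix.SpecialLinearGroup (Fin (e + 1)) F)) a) :=
      fun a => Fintype.ofFinite _
    haveI : Fintype (MulAction.orbitRel.Quotient Z (ConjClasses (Matrix.SpecialLinearGroup (Fin (e + 1)) F))) :=
      Fintype.ofFinite _
    have hburn := MulAction.sum_card_fixedBy_eq_card_orbits_mul_card_group Z
      (ConjClasses (Matrix.SpecialLinearGroup (Fin (e + 1)) F))
    have horb : Nat.card (ConjClasses (Matrix.ProjectiveSpecialLinearGroup (Fin (e + 1)) F)) ≤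
        Fintype.card (MulAction.orbitRel.Quotient Z (ConjClasses (Matrix.SpecialLinearGroup (Fin (e + 1)) F))) := by
      rw [← Nat.card_eq_fintype_card]
      refine Nat.card_le_card_of_surjective (Quotient.lift (ConjClasses.map (QuotientGroup.mk' Z)) ?_) ?_
      · rintro a b ⟨w, rfl⟩
        obtain ⟨y, rfl⟩ := ConjClasses.mk_surjective b
        show ConjClasses.mk (QuotientGroup.mk' Z ((w : Matrix.SpecialLinearGroup (Fin (e + 1)) F) * y)) = _
        rw [map_mul, show QuotientGroup.mk' Z (w : Matrix.SpecialLinearGroup (Fin (e + 1)) F) = 1 from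
          (QuotientGroup.eq_one_iff _).2 w.2, one_mul]
        rfl
      · intro C
        obtain ⟨y, rfl⟩ := ConjClasses.mk_surjective C
        obtain ⟨y, rfl⟩ := QuotientGroup.mk'_surjective Z y
        exact ⟨Quotient.mk'' (ConjClasses.mk y), rfl⟩
    refine (Nat.mul_le_mul_left _ horb).trans ?_
    rw [mul_comm, Nat.card_eq_fintype_card, ← hburn, ← Finset.add_sum_erase _ _ (Finset.mem_univ (1 : Z))]
    have h1 : Fintype.card (MulAction.fixedBy (ConjClasses (Matrix.SpecialLinearGroup (Fin (e + 1)) F)) (1 : Z)) =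
        Nat.card (ConjClasses (Matrix.SpecialLinearGroup (Fin (e + 1)) F)) := by
      rw [← Nat.card_eq_fintype_card]
      exact Nat.card_congr (Equiv.subtypeUnivEquiv fun x => one_smul Z x)
    rw [h1]
    -- bound for the other scalars
    have hfix : ∀ a : Z, a ≠ 1 → ∃ o M, 2 ≤ o ∧ e + 1 = o * (M + 1) ∧ o ∣ q - 1 ∧
        Fintype.card (MulAction.fixedBy (ConjClasses (Matrix.SpecialLinearGroup (Fin (e + 1)) F)) a) ≤
          restT q (M + 1) + (q - 1) * restB q (M + 1) := by
      intro a ha
      obtain ⟨s, hs, hsa⟩ := Matrix.SpecialLinearGroup.mem_center_iff.1 a.2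
      rw [Fintype.card_fin] at hs
      have hs0 : s ≠ 0 := fun h => by simp [h] at hs
      have hs1 : s ≠ 1 := fun h => ha (Subtype.ext (Subtype.ext (by rw [← hsa, h, map_one]; rfl)))
      set ζ : Fˣ := Units.mk0 s hs0 with hζ
      have hdvd : orderOf ζ ∣ e + 1 := orderOf_dvd_of_pow_eq_one (Units.ext (by simpa [hζ] using hs))
      have ho : 2 ≤ orderOf ζ := by
        have h1 : orderOf ζ ≠ 1 := fun h => hs1 (by simpa [hζ, Units.ext_iff] using orderOf_eq_one_iff.1 h)
        have := orderOf_pos ζ
        omega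
      obtain ⟨t, ht⟩ := hdvd
      rcases t with _ | M
      · omega
      refine ⟨orderOf ζ, M, ho, ht, ?_, ?_⟩
      · have h := orderOf_dvd_natCard ζ
        rwa [Nat.card_units, Nat.card_eq_fintype_card] at h
      · refine le_trans ?_ (card_fixed_le ho ht rfl (a : Matrix.SpecialLinearGroup (Fin (e + 1)) F) (Units.ext ?_))
        · rw [← Nat.card_eq_fintype_card]
          refine Nat.card_le_card_of_injective (fun x => ⟨x.1, fun g hg => ?_⟩) fun x y h =>
            Subtype.ext (Subtype.mk.inj h)
          have hx : a • (x.1 : ConjClasses (Matrix.SpecialLinearGroup (Fin (e + 1)) F)) = x.1 := x.2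
          rw [← hg] at hx ⊢
          exact hx
        · show ((a : Matrix.SpecialLinearGroup (Fin (e + 1)) F) : Matrix (Fin (e + 1)) (Fin (e + 1)) F) = _
          rw [← hsa]
          rfl
    set S := ∑ a ∈ (Finset.univ : Finset Z).erase 1,
      Fintype.card (MulAction.fixedBy (ConjClasses (Matrix.SpecialLinearGroup (Fin (e + 1)) F)) a)
    have hcardE : ((Finset.univ : Finset Z).erase 1).card = Nat.gcd (e + 1) (q - 1) - 1 := by
      rw [Finset.card_erase_of_mem (Finset.mem_univ _), Finset.card_univ, ← Nat.card_eq_fintype_card, hZ]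
    have hd1 := Nat.gcd_le_left (q - 1) (show 0 < e + 1 by omega)
    have hd2 : Nat.gcd (e + 1) (q - 1) ≤ q - 1 := Nat.gcd_le_right _ (by omega)
    have hbound : ∀ B, (∀ o M, 2 ≤ o → e + 1 = o * (M + 1) → o ∣ q - 1 →
        restT q (M + 1) + (q - 1) * restB q (M + 1) ≤ B) → S ≤ (Nat.gcd (e + 1) (q - 1) - 1) * B := by
      intro B hB
      rw [← hcardE, ← smul_eq_mul]
      refine Finset.sum_le_card_nsmul _ _ _ fun a ha => ?_
      obtain ⟨o, M, h2, h3, h4, h5⟩ := hfix a (Finset.ne_of_mem_erase ha)
      exact h5.trans (hB o M h2 h3 h4)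
    rcases Nat.lt_or_ge q 3 with hq2 | hq3
    · have : S ≤ 0 := (hbound 0 fun o M h2 _ h4 => absurd (Nat.le_of_dvd (by omega) h4) (by omega)).trans (by simp)
      have h := hSL.2.1
      obtain ⟨f, rfl⟩ : ∃ f, e = f + 1 := ⟨e - 1, by omega⟩
      rw [show f + 1 + 1 - 1 = f + 1 by omega, pow_succ] at h ⊢
      rw [show f + 1 + 1 - 2 = f by omega]
      nlinarith
    have hB1 : restT q 1 + (q - 1) * restB q 1 = 1 := by simp [restT, restB]
    rcases (show e = 1 ∨ e = 2 ∨ e = 3 ∨ e = 4 ∨ 5 ≤ e by omega) with rfl | rfl | rfl | rfl | he5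
    · -- n = 2
      have hS : S ≤ (Nat.gcd (1 + 1) (q - 1) - 1) * 1 := hbound 1 fun o M h2 h3 _ => by
        have : M = 0 := by nlinarith
        subst this; exact hB1.le
      have h : Nat.card (ConjClasses (Matrix.SpecialLinearGroup (Fin (1 + 1)) F)) ≤ q + 4 := card_SL_two_le hq3
      rw [show 1 + 1 - 1 = 1 from rfl, show 1 + 1 - 2 = 0 from rfl, pow_one, pow_zero]
      omega
    · have hS : S ≤ (Nat.gcd (2 + 1) (q - 1) - 1) * 1 := hbound 1 fun o M h2 h3 _ => by
        have : M = 0 := by nlinarith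
        subst this; exact hB1.le
      have h : Nat.card (ConjClasses (Matrix.SpecialLinearGroup (Fin (2 + 1)) F)) ≤ q ^ 2 + 3 * q := card_SL_three_le hq3
      rw [show 2 + 1 - 1 = 2 from rfl, show 2 + 1 - 2 = 1 from rfl, pow_one]
      omega
    · have h := card_SL_four_le' (F := F) hq3
      have hB2 : restT q 2 + (q - 1) * restB q 2 = q + (q - 1) * (q - 1) := by simp [restT, restB, restP]
      have hS' : S ≤ (Nat.gcd (3 + 1) (q - 1) - 1) * (q + (q - 1) * (q - 1)) := hbound _ fun o M h2 h3 _ => by
        have : M ≤ 1 := by nlinarith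
        rcases (show M = 0 ∨ M = 1 by omega) with rfl | rfl
        · rw [hB1]; omega
        · exact hB2.le
      obtain ⟨u, hu⟩ : ∃ u, q = u + 1 := ⟨q - 1, by omega⟩
      have hu' : q - 1 = u := by omega
      have key := four_arith (u := u) (g := Nat.gcd (3 + 1) (q - 1)) (S := S)
        (K := Nat.card (ConjClasses (Matrix.SpecialLinearGroup (Fin (3 + 1)) F))) (by omega) hd1
        (hu' ▸ Nat.gcd_dvd_right _ _) (by rw [hu', hu] at hS'; rw [hu']; exact hS') (by rw [← hu]; exact h)
      rw [← hu] at key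
      exact key
    · have hS : S ≤ (Nat.gcd (4 + 1) (q - 1) - 1) * 1 := hbound 1 fun o M h2 h3 _ => by
        have : M = 0 := by
          by_contra hM
          rcases Nat.lt_or_ge M 2 with hM2 | hM2
          · obtain rfl : M = 1 := by omega
            omega
          · have := Nat.mul_le_mul h2 (show 3 ≤ M + 1 by omega)
            omega
        subst this; exact hB1.le
      have h := hSL.2.2 (by norm_num)
      simp only [show 4 + 1 - 1 = 4 from rfl, show 4 + 1 - 2 = 3 from rfl, mul_one] at *
      have : 27 ≤ q ^ 3 := by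
        calc 27 = 3 ^ 3 := rfl
          _ ≤ q ^ 3 := Nat.pow_le_pow_left hq3 3
      omega
    · have hS : S ≤ (Nat.gcd (e + 1) (q - 1) - 1) * q ^ ((e + 1) / 2) := hbound _ fun o M h2 h3 _ => by
        have hM : M + 1 ≤ (e + 1) / 2 := by
          rw [Nat.le_div_iff_mul_le (by norm_num), h3, mul_comm]
          exact Nat.mul_le_mul_right _ h2
        refine le_trans ?_ (Nat.pow_le_pow_right (by omega) hM)
        rcases Nat.eq_zero_or_pos M with rfl | hM0
        · rw [hB1]; exact Nat.one_le_pow _ _ (by omega)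
        · exact restB_le_pow hq3 _ (by omega)
      have h := hSL.2.2 (by omega)
      have h2 : (Nat.gcd (e + 1) (q - 1) - 1) * q ^ ((e + 1) / 2) ≤ q ^ (e + 1 - 2) := by
        calc (Nat.gcd (e + 1) (q - 1) - 1) * q ^ ((e + 1) / 2) ≤ q * q ^ ((e + 1) / 2) :=
              Nat.mul_le_mul_right _ (by omega)
          _ = q ^ ((e + 1) / 2 + 1) := by rw [pow_succ']
          _ ≤ q ^ (e + 1 - 2) := Nat.pow_le_pow_right (by omega) (by omega)
      omega

end GLClassCount2478
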